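/-
A product of four orthogonal reflections in a chart of dimension eight commutes with at most 52 members (helper79).

Main results (namespace `Cfsg.Agent.TransCentFi24`):
* `chart_cent_le`.
-/
import Cfsg.Agent.Lib.FischerMain.MChain.Chart

set_option autoImplicit false

namespace Cfsg.Agent.TransCentFi24

open Cfsg Cfsg.Agent.FischerMain Cfsg.Agent.Orth
open QuadraticMap (polar)

/-- The sum of four squares takes the value one 24 times. -/
theorem four_ones : (Finset.univ.filter fun v : Fin 4 → ZMod 3 => ∑ i, v i * v i = 1).card = 24 := by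
  decide +kernel

variable {G : Type*} [Group G] [Finite G] {C : Set G} {Q : QuadraticForm (ZMod 3) (Fin 8 → ZMod 3)}
  {c : ZMod 3} {ψ : (Fin 8 → ZMod 3) → G}

omit [Finite G] in
/-- Conjugation by a product of four orthogonal reflections. -/
theorem chart_four_conj (hch : Chart3 C Q c ψ) (hsq : ∀ a ∈ C, a * a = 1) (x : Fin 4 → (Fin 8 → ZMod 3))
    (hx : ∀ i, Q (x i) = c) (v : Fin 8 → ZMod 3) (hv : Q v = c) :
    ∃ v', Q v' = c ∧ v' = rv Q c (x 0) (rv Q c (x 1) (rv Q c (x 2) (rv Q c (x 3) v))) ∧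
      (ψ (x 0) * ψ (x 1) * ψ (x 2) * ψ (x 3)) * ψ v * (ψ (x 0) * ψ (x 1) * ψ (x 2) * ψ (x 3))⁻¹ = ψ v' := by
  have hi : ∀ i, (ψ (x i))⁻¹ = ψ (x i) := fun i => inv_eq_of_mul_eq_one_left (hsq _ (hch.mem _ (hx i)))
  have q3 := rv_mem (hx 3) hv
  have q2 := rv_mem (hx 2) q3
  have q1 := rv_mem (hx 1) q2
  refine ⟨_, rv_mem (hx 0) q1, rfl, ?_⟩
  rw [← hch.conj _ _ (hx 0) q1, ← hch.conj _ _ (hx 1) q2, ← hch.conj _ _ (hx 2) q3, ← hch.conj _ _ (hx 3) hv]
  simp only [mul_inv_rev, hi, mul_assoc]

set_option maxHeartbeats 1000000 in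
/-- A product of four pairwise commuting members commutes with at most 52 members. -/
theorem chart_cent_le (hch : Chart3 C Q c ψ) (hsq : ∀ a ∈ C, a * a = 1) (u : Fin 4 → G) (hu : ∀ i, u i ∈ C)
    (hne : ∀ i j, i ≠ j → u i ≠ u j) (hcm : ∀ i j, Commute (u i) (u j)) :
    {w | w ∈ C ∧ Commute (u 0 * u 1 * u 2 * u 3) w}.ncard ≤ 52 := by
  classical
  have := Fintype.ofFinite G
  choose x hxc hxu using fun i => hch.surj (u i) (hu i)
  have hc := hch.c_ne
  have hcc := sq_z3 hc
  have horth : ∀ i j, i ≠ j → polar ⇑Q (x i) (x j) = 0 := by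
    intro i j hij
    rcases (hch.comm _ _ (hxc i) (hxc j)).1 (by rw [hxu, hxu]; exact hcm i j) with h | h | h
    · exact h
    · exact absurd (by rw [← hxu i, ← hxu j, h]) (hne i j hij)
    · refine absurd ?_ (hne i j hij)
      rw [← hxu i, ← hxu j]
      exact (hch.eq_iff _ _ (hxc i) (hxc j)).2 (Or.inr h)
  have hself : ∀ i, polar ⇑Q (x i) (x i) = 2 * c := fun i => by rw [pl_self, hxc]
  let L : (Fin 8 → ZMod 3) →ₗ[ZMod 3] (Fin 4 → ZMod 3) := LinearMap.pi fun i => Q.polarBilin (x i)
  have hL : ∀ v i, L v i = polar ⇑Q (x i) v := fun v i => rfl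
  let Φ : (Fin 4 → ZMod 3) → (Fin 8 → ZMod 3) := fun a => ∑ i, a i • x i
  have hLΦ : ∀ a i, L (Φ a) i = a i * (2 * c) := by
    intro a i
    show L (∑ j, a j • x j) i = _
    rw [map_sum, Finset.sum_apply, Finset.sum_eq_single i]
    · rw [map_smul, Pi.smul_apply, hL, hself, smul_eq_mul]
    · intro j _ hj
      rw [map_smul, Pi.smul_apply, hL, horth i j hj.symm, smul_zero]
    · intro h; exact absurd (Finset.mem_univ i) h
  have hsurj : Function.Surjective L := fun t => ⟨Φ fun i => t i * (2 * c), funext fun i => by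
    rw [hLΦ, mul_assoc, show (2 * c) * (2 * c) = 1 by linear_combination 4 * hcc + three_z3, mul_one]⟩
  have hker : Nat.card (LinearMap.ker L) = 81 := by
    have h := Submodule.card_eq_card_quotient_mul_card (LinearMap.ker L)
    rw [Nat.card_congr (LinearMap.quotKerEquivOfSurjective L hsurj).toEquiv] at h
    simp only [Nat.card_eq_fintype_card, Fintype.card_fun, Fintype.card_fin, ZMod.card] at h
    rw [Nat.card_eq_fintype_card]
    omega
  -- the vectors
  set Z : G := u 0 * u 1 * u 2 * u 3 with hZ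
  set V := (Finset.univ : Finset (Fin 8 → ZMod 3)).filter fun v => Q v = c ∧ Commute Z (ψ v) with hV
  set A := (Finset.univ : Finset (Fin 8 → ZMod 3)).filter fun v => L v = 0 ∧ v ≠ 0 with hA
  set B := ((Finset.univ : Finset (Fin 4 → ZMod 3)).filter fun a => ∑ i, a i * a i = 1).image Φ with hB
  have hA80 : A.card = 80 := by
    rw [hA, show ((Finset.univ : Finset (Fin 8 → ZMod 3)).filter fun v => L v = 0 ∧ v ≠ 0) =
      ((Finset.univ : Finset (Fin 8 → ZMod 3)).filter fun v => L v = 0).erase 0 by ext v; simp [and_comm],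
      Finset.card_erase_of_mem (by simp)]
    have : ((Finset.univ : Finset (Fin 8 → ZMod 3)).filter fun v => L v = 0).card = 81 := by
      rw [← hker, Nat.card_eq_fintype_card, ← Fintype.card_subtype]
      exact Fintype.card_congr (Equiv.refl _)
    omega
  have hVsub : V ⊆ A ∪ B := by
    intro v hv
    rw [hV, Finset.mem_filter] at hv
    obtain ⟨-, hvc, hvZ⟩ := hv
    obtain ⟨v', hv'c, hv', he⟩ := chart_four_conj hch hsq x hxc v hvc
    rw [hxu, hxu, hxu, hxu, ← hZ, hvZ.eq, mul_inv_cancel_right] at he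
    have hexp : v' = v - Φ (fun i => c⁻¹ * L v i) := by
      rw [hv']
      simp only [rv, Φ, hL, pl_sub_right, pl_smul_right, horth 2 3 (by decide), horth 1 2 (by decide),
        horth 1 3 (by decide), horth 0 1 (by decide), horth 0 2 (by decide), horth 0 3 (by decide), mul_zero,
        sub_zero, Fin.sum_univ_four]
      abel
    rw [Finset.mem_union]
    rcases (hch.eq_iff v v' hvc hv'c).1 he with h | h
    · left
      rw [hA, Finset.mem_filter]
      refine ⟨Finset.mem_univ _, funext fun i => ?_, fun h0 => hc (by rw [← hvc, h0, QuadraticMap.map_zero])⟩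
      have h1 : Φ (fun i => c⁻¹ * L v i) = 0 := by rw [hexp, sub_eq_self] at h; exact h
      have h2 : c⁻¹ * L v i * (2 * c) = 0 := by rw [← hLΦ (fun i => c⁻¹ * L v i) i, h1, map_zero]; rfl
      have h3 : (2 : ZMod 3) * L v i = 0 := by
        rw [← h2]; field_simp
      exact (mul_eq_zero.1 h3).resolve_left (by decide)
    · right
      set s := fun i => c⁻¹ * L v i with hs
      have h1 : v = Φ (fun i => 2 * s i) := by
        have e : v - Φ s = -v := hexp.symm.trans h
        have e2 : Φ s = (2 : ZMod 3) • v := by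
          rw [two_smul]; rw [sub_eq_iff_eq_add] at e
          calc Φ s = v + (-v + Φ s) := by abel
            _ = v + v := by rw [← e]
        calc v = (2 : ZMod 3) • ((2 : ZMod 3) • v) := by rw [smul_smul, show (2 : ZMod 3) * 2 = 1 by decide, one_smul]
          _ = _ := by rw [← e2]; simp only [Φ, Finset.smul_sum, smul_smul]
      set a := fun i => 2 * s i with ha
      rw [hB, Finset.mem_image]
      refine ⟨a, Finset.mem_filter.2 ⟨Finset.mem_univ _, ?_⟩, h1.symm⟩
      have h2 : polar ⇑Q v v = ∑ i, a i * (a i * (2 * c)) := by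
        rw [show polar ⇑Q v v = Q.polarBilin (Φ a) v by rw [← h1]; rfl]
        show Q.polarBilin (∑ i, a i • x i) v = _
        rw [map_sum, LinearMap.sum_apply]
        refine Finset.sum_congr rfl fun i _ => ?_
        rw [map_smul, LinearMap.smul_apply, smul_eq_mul, show Q.polarBilin (x i) v = L v i from rfl, ← hLΦ a i,
          ← h1]
      rw [pl_self, hvc] at h2
      simp only [← mul_assoc, ← Finset.sum_mul] at h2
      exact mul_right_cancel₀ (b := 2 * c) (mul_ne_zero (by decide) hc) (by rw [one_mul, ← mul_assoc]; exact h2.symm)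
  have hV104 : V.card ≤ 104 := by
    refine (Finset.card_le_card hVsub).trans ((Finset.card_union_le _ _).trans ?_)
    have := (Finset.card_image_le (f := Φ) (s := (Finset.univ : Finset (Fin 4 → ZMod 3)).filter
      fun a => ∑ i, a i * a i = 1)).trans four_ones.le
    rw [← hB] at this
    omega
  have hW : ({w | w ∈ C ∧ Commute Z w} : Set G).toFinset = V.image ψ := by
    ext w
    rw [Set.mem_toFinset, Finset.mem_image]
    constructor
    · rintro ⟨hw, hwZ⟩
      obtain ⟨v, hv, rfl⟩ := hch.surj w hw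
      exact ⟨v, Finset.mem_filter.2 ⟨Finset.mem_univ _, hv, hwZ⟩, rfl⟩
    · rintro ⟨v, hv, rfl⟩
      rw [hV, Finset.mem_filter] at hv
      exact ⟨hch.mem v hv.2.1, hv.2.2⟩
  have h2 : 2 * (V.image ψ).card ≤ V.card := by
    refine Finset.mul_card_image_le_card V 2 fun w hw => ?_
    obtain ⟨v, hv, rfl⟩ := Finset.mem_image.1 hw
    rw [hV, Finset.mem_filter] at hv
    obtain ⟨-, hvc, hvZ⟩ := hv
    have hn : Q (-v) = c := by rw [QuadraticMap.map_neg, hvc]
    have he : ψ (-v) = ψ v := ((hch.eq_iff v (-v) hvc hn).2 (Or.inr rfl)).symm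
    have hne' : v ≠ -v := fun h => hc (by
      have h0 : (2 : ZMod 3) • v = 0 := by rw [two_smul]; nth_rewrite 1 [h]; exact neg_add_cancel v
      rw [← hvc, (smul_eq_zero.1 h0).resolve_left (by decide), QuadraticMap.map_zero])
    refine le_trans (Finset.card_pair hne').ge (Finset.card_le_card fun y hy => ?_)
    rw [Finset.mem_filter, hV, Finset.mem_filter]
    simp only [Finset.mem_insert, Finset.mem_singleton] at hy
    rcases hy with rfl | rfl
    · exact ⟨⟨Finset.mem_univ _, hvc, hvZ⟩, rfl⟩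
    · exact ⟨⟨Finset.mem_univ _, hn, he.symm ▸ hvZ⟩, he⟩
  rw [Set.ncard_eq_toFinset_card', hW]
  omega

end Cfsg.Agent.TransCentFi24
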