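/-
A class of involutions whose members see a class of type M(23): the counts, and the inequality for the common
neighbours of two members at distance two (helper79).

Main results (namespace `Cfsg.Agent.TransCentFi24`):
* `Model`, `LocalCls` : the local picture;
* `LocalCls.closed_bound` : a part closed under commuting, with the members commuting with none of it, has at most
  3240 members;
* `LocalCls.exists_common_commute`.
-/
import Cfsg.Agent.Lib.TransCentFi23.Component
import Cfsg.Agent.Lib.FischerM23.Total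
import Cfsg.Agent.Lib.FischerMain.MChain.Type23
import Cfsg.Agent.Lib.FischerMain.MChain.Parts
import Cfsg.Agent.Lib.FischerMain.MChain.Eight

set_option autoImplicit false
set_option linter.unusedSectionVars false

namespace Cfsg.Agent.TransCentFi24

open Cfsg.Agent.ThreeTrans Relation
open Cfsg.Agent.FischerM22 (adj_symm adj_comm sum_card_filter sum_card_filter_sq)
open Cfsg.Agent.TransCentFi23 (NbrModel)

variable {Γ : Type*} [Group Γ] [Finite Γ] {G : Type*} [Group G] [Finite G] {D : Set Γ} {E : Set G}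

/-- The neighbours of a member carried to a class, with their conjugation. -/
structure Model (D : Set Γ) (a : Γ) (π : Γ → G) (E : Set G) : Prop extends NbrModel D a π E where
  mul : ∀ x ∈ adj D a, ∀ y ∈ adj D a, π (x * y * x) = π x * π y * π x

/-- A closed set of involutions whose members see a class of type M(23). -/
structure LocalCls (D : Set Γ) (E : Set G) : Prop where
  setup : FischerM23.Fi23Setup E
  conj : ∀ g : Γ, ∀ a ∈ D, g * a * g⁻¹ ∈ D
  order : ∀ a ∈ D, orderOf a = 2
  model : ∀ a ∈ D, ∃ π : Γ → G, Model D a π E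
  locCent : ∀ a ∈ D, Loc D a = Subgroup.centralizer ({a} : Set Γ)

/-- Two members at distance two have many common neighbours. -/
def Wide (D : Set Γ) : Prop :=
  ∀ a ∈ D, ∀ e ∈ D, ¬ Commute a e → (common D a e).Nonempty → 1621 ≤ (common D a e).ncard

namespace LocalCls

theorem mul_self (S : LocalCls D E) {a : Γ} (ha : a ∈ D) : a * a = 1 := by
  rw [← pow_two, ← S.order a ha, pow_orderOf_eq_one]

theorem inv_eq (S : LocalCls D E) {a : Γ} (ha : a ∈ D) : a⁻¹ = a :=
  inv_eq_of_mul_eq_one_left (S.mul_self ha)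

theorem ne_one (S : LocalCls D E) {a : Γ} (ha : a ∈ D) : a ≠ 1 := fun h => by
  have := S.order a ha
  rw [h, orderOf_one] at this
  omega

theorem mul_self_cancel (S : LocalCls D E) {a : Γ} (ha : a ∈ D) (x : Γ) : a * (a * x) = x := by
  rw [← mul_assoc, S.mul_self ha, one_mul]

theorem conj_self (S : LocalCls D E) {a x : Γ} (ha : a ∈ D) (hx : x ∈ D) : a * x * a ∈ D := by
  have h := S.conj a x hx
  rwa [S.inv_eq ha] at h

theorem conj_conj (S : LocalCls D E) {a x : Γ} (ha : a ∈ D) (h : Commute a x) : a * x * a = x := by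
  rw [h.eq, mul_assoc, S.mul_self ha, mul_one]

theorem braid (S : LocalCls D E) {a x y : Γ} (ha : a ∈ D) (hx : x ∈ adj D a) (hy : y ∈ adj D a)
    (h : ¬ Commute x y) : x * y * x = y * x * y := by
  obtain ⟨π, M⟩ := S.model a ha
  exact M.braid x hx y hy h

/-! ### counts -/

theorem adj_ncard (S : LocalCls D E) {a : Γ} (ha : a ∈ D) : (adj D a).ncard = 31671 := by
  obtain ⟨π, M⟩ := S.model a ha
  rw [← M.inj.ncard_image, M.image, FischerM23.class_ncard S.setup]

theorem common_ncard (S : LocalCls D E) {a x : Γ} (ha : a ∈ D) (hx : x ∈ adj D a) :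
    (adj D a ∩ adj D x).ncard = 3510 := by
  obtain ⟨π, M⟩ := S.model a ha
  rw [← (M.inj.mono Set.inter_subset_left).ncard_image, ← TransCentFi23.LocalCls.map_adj M.toNbrModel hx,
    FischerM23.adj_ncard S.setup (TransCentFi23.LocalCls.mem_class M.toNbrModel hx)]

theorem triple_ncard (S : LocalCls D E) {a x y : Γ} (ha : a ∈ D) (hx : x ∈ adj D a) (hy : y ∈ adj D a)
    (hne : x ≠ y) (hc : Commute x y) : (adj D a ∩ adj D x ∩ adj D y).ncard = 693 := by
  obtain ⟨π, M⟩ := S.model a ha
  have N := M.toNbrModel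
  rw [← (N.inj.mono (Set.inter_subset_left.trans Set.inter_subset_left)).ncard_image,
    ← TransCentFi23.LocalCls.map_common N hx hy,
    FischerM23.common_ncard S.setup (TransCentFi23.LocalCls.mem_class N hx)
      ⟨TransCentFi23.LocalCls.mem_class N hy, fun h => hne (N.inj hx hy h.symm), (N.comm x hx y hy).2 hc⟩]

theorem far_triple_ncard (S : LocalCls D E) {a x y : Γ} (ha : a ∈ D) (hx : x ∈ adj D a) (hy : y ∈ adj D a)
    (hc : ¬ Commute x y) : (adj D a ∩ adj D x ∩ adj D y).ncard = 351 := by
  obtain ⟨π, M⟩ := S.model a ha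
  have N := M.toNbrModel
  rw [← (N.inj.mono (Set.inter_subset_left.trans Set.inter_subset_left)).ncard_image,
    ← TransCentFi23.LocalCls.map_common N hx hy]
  exact FischerM23.common_card S.setup (TransCentFi23.LocalCls.mem_class N hx)
    (TransCentFi23.LocalCls.mem_class N hy) fun h => hc ((N.comm x hx y hy).1 h)

theorem common_deg (S : LocalCls D E) {a e q : Γ} (ha : a ∈ D) (he : e ∈ D) (hae : ¬ Commute a e)
    (hq : q ∈ common D a e) : (common D a e ∩ adj D q).ncard = 351 := by
  rw [← S.far_triple_ncard hq.1.1 (adj_symm ha hq.1) (adj_symm he hq.2) hae]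
  congr 1
  unfold common
  ext z
  simp only [Set.mem_inter_iff]
  tauto

/-- The basic inequality for a part of the common neighbours closed under commuting. -/
theorem closed_bound (S : LocalCls D E) {a e : Γ} (ha : a ∈ D) (he : e ∈ D) (hae : ¬ Commute a e)
    {C : Set Γ} (hC : C ⊆ common D a e) (hne : C.Nonempty)
    (hcl : ∀ q ∈ C, ∀ r ∈ common D a e, Commute q r → r ∈ C)
    (K : Set Γ) (hK : K ⊆ adj D a) (hK0 : ∀ p ∈ K, ∀ q ∈ C, ¬ Commute p q) :
    C.ncard + K.ncard ≤ 3240 := by
  classical
  have := Fintype.ofFinite Γ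
  set A : Finset Γ := (adj D a).toFinset with hA
  set c : Finset Γ := C.toFinset with hc
  set R : Γ → Γ → Prop := fun p q => q ∈ adj D p with hR
  have hAc : A.card = 31671 := by rw [hA, ← Set.ncard_eq_toFinset_card']; exact S.adj_ncard ha
  have hcA : c ⊆ A := fun x hx => by
    simp only [hc, hA, Set.mem_toFinset] at hx ⊢
    exact (hC hx).1
  have hcn : c.card = C.ncard := by rw [hc, ← Set.ncard_eq_toFinset_card']
  -- the neighbours inside C
  have hin : ∀ p ∈ c, (c.filter (R p)).card = 351 := by
    intro p hp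
    simp only [hc, Set.mem_toFinset] at hp
    rw [← Set.ncard_coe_finset, ← S.common_deg ha he hae (hC hp)]
    congr 1
    ext r
    simp only [hc, hR, Finset.coe_filter, Set.mem_toFinset, Set.mem_ofPred_eq, Set.mem_inter_iff]
    exact ⟨fun h => ⟨hC h.1, h.2⟩, fun h => ⟨hcl p hp r h.1 h.2.2.2, h.2⟩⟩
  have h180 : ∀ q ∈ c, (A.filter fun p => R p q).card = 3510 := by
    intro q hq
    simp only [hc, Set.mem_toFinset] at hq
    rw [← Set.ncard_coe_finset, ← S.common_ncard ha (hC hq).1]
    congr 1
    ext p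
    simp only [hA, hR, Finset.coe_filter, Set.mem_toFinset, Set.mem_ofPred_eq, Set.mem_inter_iff]
    exact and_congr_right fun hp => adj_comm hp.1 (hC hq).1.1
  have htot : ∑ p ∈ A, (c.filter (R p)).card = 3510 * c.card := by
    rw [sum_card_filter, Finset.sum_congr rfl h180, Finset.sum_const, smul_eq_mul, mul_comm]
  have hpair : ∀ q ∈ c, ∀ r ∈ c, (A.filter fun p => R p q ∧ R p r).card
      = if r = q then 3510 else if R q r then 693 else 351 := by
    intro q hq r hr
    by_cases h1 : r = q
    · subst h1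
      rw [if_pos rfl, ← h180 r hr]
      congr 1
      exact Finset.filter_congr fun p _ => and_self_iff
    rw [if_neg h1]
    simp only [hc, Set.mem_toFinset] at hq hr
    have hset : (↑(A.filter fun p => R p q ∧ R p r) : Set Γ) = adj D a ∩ adj D q ∩ adj D r := by
      ext p
      simp only [hA, hR, Finset.coe_filter, Set.mem_toFinset, Set.mem_ofPred_eq, Set.mem_inter_iff]
      refine ⟨fun h => ⟨⟨h.1, (adj_comm h.1.1 (hC hq).1.1).1 h.2.1⟩, (adj_comm h.1.1 (hC hr).1.1).1 h.2.2⟩,
        fun h => ⟨h.1.1, (adj_comm h.1.1.1 (hC hq).1.1).2 h.1.2, (adj_comm h.1.1.1 (hC hr).1.1).2 h.2⟩⟩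
    by_cases h2 : R q r
    · rw [if_pos h2, ← Set.ncard_coe_finset, hset]
      exact S.triple_ncard ha (hC hq).1 (hC hr).1 (fun h => h1 h.symm) h2.2.2
    · rw [if_neg h2, ← Set.ncard_coe_finset, hset]
      exact S.far_triple_ncard ha (hC hq).1 (hC hr).1 fun h => h2 ⟨(hC hr).1.1, h1, h⟩
  have hsq : (∑ p ∈ A, (c.filter (R p)).card ^ 2 : ℕ) = c.card * (123201 + 351 * c.card) := by
    rw [sum_card_filter_sq, Finset.sum_congr rfl fun q hq => Finset.sum_congr rfl (hpair q hq)]
    refine (Finset.sum_const_nat fun q hq => ?_)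
    have h351 := hin q hq
    have e1 : ∀ r ∈ c, (if r = q then 3510 else if R q r then 693 else 351 : ℕ)
        = 351 + (if r = q then 3159 else 0) + (if R q r then 342 else 0) := by
      intro r _
      by_cases h : r = q
      · subst h
        rw [if_pos rfl, if_pos rfl, if_neg (fun h' : R r r => h'.2.1 rfl)]
      · by_cases h' : R q r <;> simp [h, h']
    rw [Finset.sum_congr rfl e1, Finset.sum_add_distrib, Finset.sum_add_distrib, Finset.sum_const,
      Finset.sum_ite_eq' c q, if_pos hq, ← Finset.sum_filter, Finset.sum_const, h351]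
    simp only [smul_eq_mul]
    ring
  have hc1 : ∑ p ∈ c, (c.filter (R p)).card = 351 * c.card := by
    rw [Finset.sum_congr rfl hin, Finset.sum_const, smul_eq_mul, mul_comm]
  have hc2 : ∑ p ∈ c, (c.filter (R p)).card ^ 2 = 123201 * c.card := by
    rw [Finset.sum_congr rfl fun p hp => by rw [hin p hp], Finset.sum_const, smul_eq_mul, mul_comm]; rfl
  -- the others
  set k : Finset Γ := K.toFinset with hk
  have hkc : k ⊆ A \ c := fun p hp => by
    simp only [hk, Set.mem_toFinset] at hp
    simp only [hA, hc, Finset.mem_sdiff, Set.mem_toFinset]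
    exact ⟨hK hp, fun h => hK0 p hp p h (Commute.refl p)⟩
  have hk0 : ∀ p ∈ k, (c.filter (R p)).card = 0 := fun p hp => by
    simp only [hk, Set.mem_toFinset] at hp
    rw [Finset.card_eq_zero, Finset.filter_eq_empty_iff]
    intro q hq h
    simp only [hc, Set.mem_toFinset] at hq
    exact hK0 p hp q hq h.2.2
  set B := (A \ c) \ k with hB
  have hB1 : ∑ p ∈ B, (c.filter (R p)).card + 351 * c.card = 3510 * c.card := by
    rw [← htot, ← Finset.sum_sdiff hcA, hc1, ← Finset.sum_sdiff hkc, Finset.sum_eq_zero hk0, add_zero]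
  have hB2 : (∑ p ∈ B, (c.filter (R p)).card ^ 2) + 123201 * c.card = c.card * (123201 + 351 * c.card) := by
    rw [← hsq, ← Finset.sum_sdiff hcA, hc2, ← Finset.sum_sdiff hkc,
      Finset.sum_eq_zero (s := k) (fun p hp => by rw [hk0 p hp]; rfl), add_zero]
  have hBc : B.card + k.card + c.card = 31671 := by
    rw [← hAc, ← Finset.card_sdiff_add_card_eq_card hcA, ← Finset.card_sdiff_add_card_eq_card hkc]
  have hcs : (∑ p ∈ B, (c.filter (R p)).card) ^ 2 ≤ B.card * ∑ p ∈ B, (c.filter (R p)).card ^ 2 :=
    sq_sum_le_card_mul_sum_sq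
  have hkn : k.card = K.ncard := by rw [hk, ← Set.ncard_eq_toFinset_card']
  have hpos : 0 < c.card := by rw [hcn]; exact (Set.ncard_pos (Set.toFinite _)).2 hne
  rw [← hcn, ← hkn]
  generalize ∑ p ∈ B, (c.filter (R p)).card = s1 at hB1 hcs
  generalize ∑ p ∈ B, (c.filter (R p)).card ^ 2 = s2 at hB2 hcs
  zify at hcs hB1 hB2 hBc hpos ⊢
  generalize (c.card : ℤ) = n at *
  generalize (B.card : ℤ) = m at *
  have h1 : (s1 : ℤ) = 3159 * n := by linarith
  have h2 : (s2 : ℤ) = 351 * n * n := by linarith
  rw [h1, h2] at hcs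
  have h3 : (9979281 : ℤ) * (n * n) ≤ 351 * m * (n * n) := by linarith
  have h4 := le_of_mul_le_mul_right h3 (mul_pos hpos hpos)
  linarith

/-- Every neighbour of `a` commutes with a common neighbour of `a` and `e`. -/
theorem exists_common_commute (S : LocalCls D E) {a e p : Γ} (ha : a ∈ D) (he : e ∈ D)
    (hae : ¬ Commute a e) (hW : Wide D) (hne : (common D a e).Nonempty) (hp : p ∈ adj D a) : ∃ y ∈ common D a e, Commute y p := by
  by_contra hc
  have hc' : ∀ y ∈ common D a e, ¬ Commute y p := fun y hy h => hc ⟨y, hy, h⟩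
  have hp0 : p ∉ common D a e := fun h => hc' p h (Commute.refl p)
  set K := (fun q => q * p * q) '' common D a e with hKdef
  have hinj : Set.InjOn (fun q => q * p * q) (common D a e) := by
    intro q hq r hr h
    simp only [S.braid ha hq.1 hp (hc' q hq), S.braid ha hr.1 hp (hc' r hr)] at h
    exact mul_left_cancel (mul_right_cancel h)
  have hkey : ∀ q ∈ common D a e, q * p * q ∈ adj D a ∧ ∀ r ∈ common D a e, ¬ Commute (q * p * q) r := by
    intro q hq
    refine ⟨⟨S.conj_self hq.1.1 hp.1, fun h => hp.2.1 ?_,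
      (hq.1.2.2.mul_right hp.2.2).mul_right hq.1.2.2⟩, fun r hr h => ?_⟩
    · calc p = q * (q * p * q) * q := by
            simp only [mul_assoc, S.mul_self_cancel hq.1.1, S.mul_self hq.1.1, mul_one]
        _ = a := by rw [h]; exact S.conj_conj hq.1.1 hq.1.2.2.symm
    · have hmem : q * r * q⁻¹ ∈ common D a e := by
        have h1 := common_conj S.conj (y := e) (hq.1.2.2.symm : Commute q a)
        rw [show q * e * q⁻¹ = e by rw [← hq.2.2.2.eq, mul_inv_cancel_right]] at h1
        rw [h1]; exact ⟨r, hr, rfl⟩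
      refine hc' _ hmem ?_
      have h1 := (h.map (MulAut.conj q).toMonoidHom).symm
      simp only [MulEquiv.coe_toMonoidHom, MulAut.conj_apply] at h1
      rwa [show q * (q * p * q) * q⁻¹ = p by
        rw [S.inv_eq hq.1.1]
        simp only [mul_assoc, S.mul_self_cancel hq.1.1, S.mul_self hq.1.1, mul_one]] at h1
  have h := S.closed_bound ha he hae subset_rfl hne
    (fun _ _ _ hr _ => hr) K (by rintro _ ⟨q, hq, rfl⟩; exact (hkey q hq).1)
    (by rintro _ ⟨q, hq, rfl⟩ r hr; exact (hkey q hq).2 r hr)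
  rw [hKdef, Set.InjOn.ncard_image hinj] at h
  have := hW a ha e he hae hne
  omega

end LocalCls

end Cfsg.Agent.TransCentFi24
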