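/-
A component of a class with the local picture of type M(23): it has diameter two, it is a class of 3-transpositions
of its group, and this group contains the centralisers of its members (helper79).

Main results (namespace `Cfsg.Agent.TransCentFi24`):
* `WideCls`, `WideCls.reach_product`, `WideCls.comp_trans`, `WideCls.mem_of_meet`.
-/
import Cfsg.Agent.Lib.TransCentFi24.Local

set_option autoImplicit false
set_option linter.unusedSectionVars false

namespace Cfsg.Agent.TransCentFi24

open Cfsg.Agent.ThreeTrans Relation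
open Cfsg.Agent.FischerM22 (adj_symm adj_comm)
open Cfsg.Agent.FischerM23 (Reach reach_symm reach_conj)

variable {Γ : Type*} [Group Γ] [Finite Γ] {G : Type*} [Group G] [Finite G] {D : Set Γ} {E : Set G}

/-- The local picture, with members at distance two having many common neighbours. -/
structure WideCls (D : Set Γ) (E : Set G) : Prop extends LocalCls D E where
  wide : Wide D

/-- The members joined to `a`. -/
def comp (D : Set Γ) (a : Γ) : Set Γ := {x | x ∈ D ∧ Reach D a x}

/-- The group generated by a component. -/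
abbrev compGroup (D : Set Γ) (a : Γ) : Subgroup Γ := Subgroup.closure (comp D a)

namespace WideCls

/-- A component has diameter two. -/
theorem reach_cases (S : WideCls D E) {a x : Γ} (ha : a ∈ D) (h : Reach D a x) :
    x ∈ D ∧ (x = a ∨ x ∈ adj D a ∨ (¬ Commute a x ∧ (common D a x).Nonempty)) := by
  induction h with
  | refl => exact ⟨ha, Or.inl rfl⟩
  | @tail u v _ huv ih =>
    obtain ⟨-, ih⟩ := ih
    refine ⟨huv.2.1, ?_⟩
    by_cases hva : v = a
    · exact Or.inl hva
    by_cases hc : Commute a v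
    · exact Or.inr (Or.inl ⟨huv.2.1, hva, hc⟩)
    refine Or.inr (Or.inr ⟨hc, ?_⟩)
    have hvu : v ≠ u → v ∈ adj D u := fun e => ⟨huv.2.1, e, huv.2.2⟩
    by_cases hvu' : v = u
    · subst hvu'
      rcases ih with h | h | ⟨-, h⟩
      exacts [absurd h hva, absurd h.2.2 hc, h]
    rcases ih with rfl | h | ⟨h, hne⟩
    · exact absurd huv.2.2 hc
    · exact ⟨u, h, adj_symm huv.1 (hvu hvu')⟩
    · obtain ⟨q, hq⟩ := hne
      have hne' : (common D u a).Nonempty := ⟨q, hq.2, hq.1⟩
      obtain ⟨y, hy, hyv⟩ := S.exists_common_commute huv.1 ha (fun h' => h h'.symm) S.wide hne'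
        (hvu hvu')
      by_cases hyv' : v = y
      · exact absurd hy.2.2.2 (hyv' ▸ hc)
      · exact ⟨y, hy.2, hy.2.1, fun e => hyv' e.symm, hyv.symm⟩

theorem reach_refl_mem (S : WideCls D E) {a x : Γ} (ha : a ∈ D) (h : Reach D a x) : x ∈ D :=
  (S.reach_cases ha h).1

/-- Two members of a component commute or their product has order three. -/
theorem reach_product (S : WideCls D E) {a b : Γ} (ha : a ∈ D) (h : Reach D a b) :
    (a * b) ^ 2 = 1 ∨ (a * b) ^ 3 = 1 := by
  obtain ⟨hb, hcase⟩ := S.reach_cases ha h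
  have sq : Commute a b → (a * b) ^ 2 = 1 := fun hc => by
    rw [hc.mul_pow, pow_two, pow_two, S.mul_self ha, S.mul_self hb, one_mul]
  rcases hcase with rfl | hadj | ⟨hn, q, hq⟩
  · exact Or.inl (sq (Commute.refl _))
  · exact Or.inl (sq hadj.2.2)
  · right
    have hb' := S.braid hq.1.1 (adj_symm ha hq.1) (adj_symm hb hq.2) hn
    calc (a * b) ^ 3 = a * b * a * (b * a * b) := by simp [pow_succ, mul_assoc]
      _ = a * b * a * (a * b * a) := by rw [hb']
      _ = 1 := by simp [mul_assoc, S.mul_self_cancel ha, S.mul_self_cancel hb, S.mul_self ha]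

theorem self_mem_comp (a : Γ) (ha : a ∈ D) : a ∈ comp D a := ⟨ha, ReflTransGen.refl⟩

theorem comp_closed {a x y : Γ} (hx : x ∈ comp D a) (hy : y ∈ D) (hc : Commute x y) : y ∈ comp D a :=
  ⟨hy, hx.2.tail ⟨hx.1, hy, hc⟩⟩

theorem adj_sub_comp {a x : Γ} (hx : x ∈ comp D a) : adj D x ⊆ comp D a := fun _ hy =>
  comp_closed hx hy.1 hy.2.2

/-- An element sending a member of a component into it stabilises it. -/
theorem comp_conj (S : WideCls D E) {a x g : Γ} (hx : x ∈ comp D a) (hg : g * x * g⁻¹ ∈ comp D a)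
    {y : Γ} (hy : y ∈ comp D a) : g * y * g⁻¹ ∈ comp D a :=
  ⟨S.conj g y hy.1, hg.2.trans (reach_conj S.conj g ((reach_symm hx.2).trans hy.2))⟩

theorem mem_compGroup {a x : Γ} (hx : x ∈ comp D a) : x ∈ compGroup D a := Subgroup.subset_closure hx

theorem centralizer_le (S : WideCls D E) {a x : Γ} (hx : x ∈ comp D a) :
    Subgroup.centralizer ({x} : Set Γ) ≤ compGroup D a := by
  rw [← S.locCent x hx.1]
  exact Subgroup.closure_mono (adj_sub_comp hx)

theorem compGroup_conj (S : WideCls D E) {a g : Γ} (hg : g ∈ compGroup D a) :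
    ∀ y ∈ comp D a, g * y * g⁻¹ ∈ comp D a := by
  induction hg using Subgroup.closure_induction with
  | mem x hx =>
    intro y hy
    exact S.comp_conj hx (by rwa [mul_inv_cancel_right]) hy
  | one => intro y hy; simpa using hy
  | mul u v _ _ hu hv =>
    intro y hy
    rw [show u * v * y * (u * v)⁻¹ = u * (v * y * v⁻¹) * u⁻¹ by group]
    exact hu _ (hv y hy)
  | inv u _ hu =>
    intro y hy
    have hfin : (fun z => u * z * u⁻¹) '' comp D a = comp D a :=
      Set.eq_of_subset_of_ncard_le (by rintro _ ⟨z, hz, rfl⟩; exact hu z hz)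
        (Set.ncard_image_of_injective _ fun p q h => mul_left_cancel (mul_right_cancel h)).ge (Set.toFinite _)
    obtain ⟨z, hz, e⟩ := hfin.symm ▸ hy
    rw [← e]
    convert hz using 1
    group

/-- A component is a single class of its group. -/
theorem comp_trans (S : WideCls D E) {a x : Γ} (ha : a ∈ D) (hx : x ∈ comp D a) :
    ∃ h ∈ compGroup D a, h * a * h⁻¹ = x := by
  have flip : ∀ {u v : Γ}, u ∈ comp D a → v ∈ comp D a → ¬ Commute u v →
      ∃ h ∈ compGroup D a, h * u * h⁻¹ = v := by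
    intro u v hu hv hn
    obtain ⟨-, hcase⟩ := S.reach_cases hu.1 ((reach_symm hu.2).trans hv.2)
    rcases hcase with rfl | h | ⟨-, q, hq⟩
    · exact absurd (Commute.refl _) hn
    · exact absurd h.2.2 hn
    refine ⟨u * v, mul_mem (mem_compGroup hu) (mem_compGroup hv), ?_⟩
    have hb := S.braid hq.1.1 (adj_symm hu.1 hq.1) (adj_symm hv.1 hq.2) hn
    calc u * v * u * (u * v)⁻¹ = (u * v * u) * (v * u) := by
          rw [mul_inv_rev, S.inv_eq hu.1, S.inv_eq hv.1]
      _ = (v * u * v) * (v * u) := by rw [hb]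
      _ = v := by simp [mul_assoc, S.mul_self_cancel hu.1, S.mul_self_cancel hv.1, S.mul_self hu.1]
  obtain ⟨hxD, hr⟩ := hx
  induction hr with
  | refl => exact ⟨1, one_mem _, by simp⟩
  | @tail u v hau huv ih =>
    have hu : u ∈ comp D a := ⟨huv.1, hau⟩
    have hv : v ∈ comp D a := comp_closed hu huv.2.1 huv.2.2
    obtain ⟨h, hh, e⟩ := ih huv.1
    by_cases hvu : v = u
    · exact ⟨h, hh, hvu ▸ e⟩
    -- a member commuting with neither
    have hadj : v ∈ adj D u := ⟨huv.2.1, hvu, huv.2.2⟩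
    obtain ⟨q, ⟨hq, hqv⟩⟩ : (adj D u ∩ adj D v).Nonempty :=
      Set.nonempty_of_ncard_ne_zero (by rw [S.common_ncard huv.1 hadj]; norm_num)
    have hu' := adj_symm huv.1 hq
    have hv' := adj_symm huv.2.1 hqv
    obtain ⟨z, hz, n1, n2⟩ : ∃ z ∈ adj D q, ¬ Commute u z ∧ ¬ Commute v z := by
      by_contra hno
      have hsub : adj D q ⊆ insert u (adj D q ∩ adj D u) ∪ insert v (adj D q ∩ adj D v) := by
        intro z hz
        by_cases h1 : Commute u z
        · by_cases e1 : z = u
          · exact Or.inl (Or.inl e1)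
          · exact Or.inl (Or.inr ⟨hz, hz.1, e1, h1⟩)
        by_cases h2 : Commute v z
        · by_cases e1 : z = v
          · exact Or.inr (Or.inl e1)
          · exact Or.inr (Or.inr ⟨hz, hz.1, e1, h2⟩)
        exact absurd ⟨z, hz, h1, h2⟩ hno
      have h3 := (Set.ncard_le_ncard hsub (Set.toFinite _)).trans
        ((Set.ncard_union_le _ _).trans (Nat.add_le_add (Set.ncard_insert_le _ _) (Set.ncard_insert_le _ _)))
      rw [S.adj_ncard hq.1, S.common_ncard hq.1 hu', S.common_ncard hq.1 hv'] at h3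
      omega
    have hzc : z ∈ comp D a := adj_sub_comp (adj_sub_comp hu hq) hz
    obtain ⟨h1, hh1, e1⟩ := flip hu hzc n1
    obtain ⟨h2, hh2, e2⟩ := flip hzc hv fun hc => n2 hc.symm
    refine ⟨h2 * h1 * h, mul_mem (mul_mem hh2 hh1) hh, ?_⟩
    rw [show h2 * h1 * h * a * (h2 * h1 * h)⁻¹ = h2 * (h1 * (h * a * h⁻¹) * h1⁻¹) * h2⁻¹ by group, e, e1, e2]

/-- An element meeting a component lies in its group. -/
theorem mem_of_meet (S : WideCls D E) {a x g : Γ} (ha : a ∈ D) (hx : x ∈ comp D a)
    (hg : g * x * g⁻¹ ∈ comp D a) : g ∈ compGroup D a := by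
  obtain ⟨h, hh, e⟩ := S.comp_trans ha hx
  obtain ⟨k, hk, ek⟩ := S.comp_trans ha hg
  have hc : k⁻¹ * g * h ∈ Subgroup.centralizer ({a} : Set Γ) := by
    refine Subgroup.mem_centralizer_singleton_iff.2 ?_
    calc k⁻¹ * g * h * a = k⁻¹ * (g * (h * a * h⁻¹) * g⁻¹) * (g * h) := by group
      _ = k⁻¹ * (k * a * k⁻¹) * (g * h) := by rw [e, ek]
      _ = a * (k⁻¹ * g * h) := by group
  have := mul_mem (mul_mem hk (S.centralizer_le (self_mem_comp a ha) hc)) (inv_mem hh)
  rwa [show k * (k⁻¹ * g * h) * h⁻¹ = g by group] at this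

end WideCls

end Cfsg.Agent.TransCentFi24
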