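/-
An outer involution whose centraliser inside is a group of type M(23): the local picture of its class, and the
conjugates commuting with a product of three transpositions (helper79).

Main results (namespace `Cfsg.Agent.TransCentFi24`):
* `Seed`, `Seed.model`, `Seed.loc_eq`, `Seed.localCls`;
* `Seed.mem_cent_iff`, `Seed.cent_le` : at most 504 conjugates commute with the product.
-/
import Cfsg.Agent.Lib.TransCentFi24.Local
import Cfsg.Agent.Lib.FischerM22.Order
import Cfsg.Agent.Lib.FischerM23.Involutions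

set_option autoImplicit false
set_option linter.unusedSectionVars false

namespace Cfsg.Agent.TransCentFi24

open Cfsg.Agent.ThreeTrans
open Cfsg.Agent.FischerM22 (IsProd isProd_one isProd_two isProd_three isProd_cases IsTriple card_orbit_mul)

variable {Γ : Type*} [Group Γ]

/-- The centraliser inside. -/
abbrev Yd (G₀ : Subgroup Γ) (d : Γ) : Subgroup Γ := G₀ ⊓ Subgroup.centralizer ({d} : Set Γ)

/-- An outer involution, its centraliser inside of type M(23), and a product of three transpositions. -/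
structure Seed (G₀ : Subgroup Γ) (d z : Γ) (T : Set ↥(Yd G₀ d)) : Prop where
  idx : G₀.index = 2
  out : d ∉ G₀
  sq : d * d = 1
  setup : FischerM23.Fi23Setup T
  shift : ∀ τ ∈ T, d * (τ : Γ) ∈ conjugatesOf d
  no_pair : ∀ x, IsProd T 2 x → d * (x : Γ) ∉ conjugatesOf d
  no_triple : ∀ x, IsProd T 3 x → d * (x : Γ) ∉ conjugatesOf d
  triple : ∃ x, IsProd T 3 x ∧ (x : Γ) = z
  znc : ∀ g ∈ G₀, ∀ x, (IsProd T 1 x ∨ IsProd T 2 x) → g * (x : Γ) * g⁻¹ ≠ z
  zcard : Nat.card ↥(Subgroup.centralizer ({z} : Set Γ)) = 321052999680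
  pair_cent : ∃ τ ∈ T, ∀ g : Γ, Commute g (τ : Γ) → g * d * g⁻¹ = d ∨ g * d * g⁻¹ = d * (τ : Γ)

variable {G₀ : Subgroup Γ} {d z : Γ} {T : Set ↥(Yd G₀ d)}

open Classical in
/-- A neighbour of `d` times `d`. -/
noncomputable def pr (G₀ : Subgroup Γ) (d x : Γ) : ↥(Yd G₀ d) :=
  if h : d * x ∈ Yd G₀ d then ⟨d * x, h⟩ else 1

theorem comm_d (y : ↥(Yd G₀ d)) : Commute d (y : Γ) :=
  (Subgroup.mem_centralizer_singleton_iff.1 y.2.2).symm

namespace Seed

variable [Finite Γ] (S : Seed G₀ d z T)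
include S

theorem normal : G₀.Normal := Subgroup.normal_of_index_eq_two S.idx

theorem conj_mem_iff (g : Γ) {x : Γ} : g * x * g⁻¹ ∈ G₀ ↔ x ∈ G₀ := by
  have := S.normal
  refine ⟨fun h => ?_, fun h => Subgroup.Normal.conj_mem this x h g⟩
  have h2 := Subgroup.Normal.conj_mem this _ h g⁻¹
  simpa [mul_assoc] using h2

theorem self_mem : d ∈ conjugatesOf d := IsConj.refl d

theorem conj_closed : ∀ g : Γ, ∀ a ∈ conjugatesOf d, g * a * g⁻¹ ∈ conjugatesOf d := fun g _ ha =>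
  IsConj.trans ha (isConj_iff.2 ⟨g, rfl⟩)

theorem class_out {x : Γ} (hx : x ∈ conjugatesOf d) : x ∉ G₀ := by
  obtain ⟨g, rfl⟩ := isConj_iff.1 (show IsConj d x from hx)
  exact fun h => S.out ((S.conj_mem_iff g).1 h)

theorem class_sq {x : Γ} (hx : x ∈ conjugatesOf d) : x * x = 1 := by
  obtain ⟨g, rfl⟩ := isConj_iff.1 (show IsConj d x from hx)
  calc g * d * g⁻¹ * (g * d * g⁻¹) = g * (d * d) * g⁻¹ := by group
    _ = 1 := by rw [S.sq, mul_one, mul_inv_cancel]

theorem d_order : orderOf d = 2 :=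
  orderOf_eq_prime (by rw [pow_two, S.sq]) fun h => S.out (h ▸ one_mem _)

theorem exists_inner {x : Γ} (hx : x ∈ conjugatesOf d) : ∃ g ∈ G₀, g * d * g⁻¹ = x := by
  obtain ⟨g, rfl⟩ := isConj_iff.1 (show IsConj d x from hx)
  by_cases hg : g ∈ G₀
  · exact ⟨g, hg, rfl⟩
  · refine ⟨g * d, (Subgroup.mul_mem_iff_of_index_two S.idx).2 (iff_of_false hg S.out), ?_⟩
    simp [mul_assoc, mul_inv_rev, S.sq, inv_eq_of_mul_eq_one_left S.sq]

theorem d_mul_cancel (x : Γ) : d * (d * x) = x := by rw [← mul_assoc, S.sq, one_mul]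

/-- The neighbours of `d`. -/
theorem adj_eq : adj (conjugatesOf d) d = (fun τ : ↥(Yd G₀ d) => d * (τ : Γ)) '' T := by
  ext x
  constructor
  · rintro ⟨hx, hne, hc⟩
    have hY : d * x ∈ Yd G₀ d :=
      ⟨(Subgroup.mul_mem_iff_of_index_two S.idx).2 (iff_of_false S.out (S.class_out hx)),
        Subgroup.mem_centralizer_singleton_iff.2 ((Commute.refl d).mul_right hc).eq.symm⟩
    obtain ⟨m, h1, h3, hm⟩ := FischerM23.involution_prod S.setup (x := (⟨d * x, hY⟩ : ↥(Yd G₀ d)))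
      (Subtype.ext (by
        show d * x * (d * x) = 1
        rw [hc.symm.mul_mul_mul_comm, S.sq, S.class_sq hx, mul_one]))
      (fun e => hne (by
        have h : d * x = 1 := congrArg Subtype.val e
        rw [← S.d_mul_cancel x, h, mul_one]))
    have hback : d * ((⟨d * x, hY⟩ : ↥(Yd G₀ d)) : Γ) = x := S.d_mul_cancel x
    rcases (by omega : m = 1 ∨ m = 2 ∨ m = 3) with rfl | rfl | rfl
    · obtain ⟨-, hT⟩ | ⟨e, -⟩ | ⟨e, -⟩ := isProd_cases le_rfl (by norm_num) hm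
      · exact ⟨_, hT, hback⟩
      · omega
      · omega
    · exact absurd (hback.symm ▸ hx) (S.no_pair _ hm)
    · exact absurd (hback.symm ▸ hx) (S.no_triple _ hm)
  · rintro ⟨τ, hτ, rfl⟩
    refine ⟨S.shift τ hτ, fun e => ?_, (Commute.refl d).mul_right (comm_d τ)⟩
    exact FischerM23.prod_ne_one S.setup le_rfl (by norm_num) (isProd_one hτ) (Subtype.ext (mul_eq_left.1 e))

theorem pr_shift (τ : ↥(Yd G₀ d)) : pr G₀ d (d * (τ : Γ)) = τ := by
  unfold pr
  rw [dif_pos (by rw [S.d_mul_cancel]; exact τ.2)]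
  exact Subtype.ext (S.d_mul_cancel _)

theorem shift_comm (τ σ : ↥(Yd G₀ d)) : Commute (d * (τ : Γ)) (d * σ) ↔ Commute τ σ := by
  have e : ∀ u v : ↥(Yd G₀ d), d * (u : Γ) * (d * v) = (u : Γ) * v := fun u v => by
    rw [(comm_d u).eq, mul_assoc, S.d_mul_cancel]
  show _ = _ ↔ _ = _
  rw [e, e, ← Subgroup.coe_mul, ← Subgroup.coe_mul, Subtype.coe_inj]

theorem shift_triple (τ σ : ↥(Yd G₀ d)) :
    d * (τ : Γ) * (d * σ) * (d * τ) = d * ((τ * σ * τ : ↥(Yd G₀ d)) : Γ) := by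
  rw [show d * (τ : Γ) * (d * σ) = (τ : Γ) * σ by rw [(comm_d τ).eq, mul_assoc, S.d_mul_cancel],
    ← Subgroup.coe_mul, ← mul_assoc, ← (comm_d (τ * σ)).eq, mul_assoc, ← Subgroup.coe_mul]

/-- The local picture at `d`. -/
theorem model : Model (conjugatesOf d) d (pr G₀ d) T where
  inj := by
    rw [S.adj_eq]
    rintro _ ⟨τ, -, rfl⟩ _ ⟨σ, -, rfl⟩ h
    rw [S.pr_shift, S.pr_shift] at h
    rw [h]
  image := by
    rw [S.adj_eq, Set.image_image]
    simp only [S.pr_shift, Set.image_id']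
  comm := by
    rw [S.adj_eq]
    rintro _ ⟨τ, -, rfl⟩ _ ⟨σ, -, rfl⟩
    rw [S.pr_shift, S.pr_shift, S.shift_comm]
  braid := by
    rw [S.adj_eq]
    rintro _ ⟨τ, hτ, rfl⟩ _ ⟨σ, hσ, rfl⟩ h
    rw [S.shift_triple, S.shift_triple,
      ThreeTrans.braid S.setup.cls.1 hτ hσ fun e => h ((S.shift_comm τ σ).2 e)]
  mul := by
    rw [S.adj_eq]
    rintro _ ⟨τ, -, rfl⟩ _ ⟨σ, -, rfl⟩
    rw [S.shift_triple, S.pr_shift, S.pr_shift, S.pr_shift]

/-- The local group is the centraliser. -/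
theorem loc_eq : Loc (conjugatesOf d) d = Subgroup.centralizer ({d} : Set Γ) := by
  set L := Loc (conjugatesOf d) d with hL
  refine le_antisymm ((Subgroup.closure_le _).2 fun y hy =>
    Subgroup.mem_centralizer_singleton_iff.2 hy.2.2.eq.symm) ?_
  have hTL : ∀ τ ∈ T, d * (τ : Γ) ∈ L := fun τ hτ => Subgroup.subset_closure (S.adj_eq ▸ ⟨τ, hτ, rfl⟩)
  set M := L.subgroupOf (Yd G₀ d) with hM
  obtain ⟨τ0, hτ0, -⟩ := S.setup.two_members
  have hsq0 : τ0 * τ0 = 1 := ThreeTrans.mul_self S.setup.cls.1 hτ0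
  have hconj : ∀ {y}, y ∈ M → τ0 * y * τ0 ∈ M := fun {y} hy => by
    have h1 : d * (τ0 : Γ) * (y : Γ) * (d * τ0) ∈ L :=
      mul_mem (mul_mem (hTL τ0 hτ0) (Subgroup.mem_subgroupOf.1 hy)) (hTL τ0 hτ0)
    rw [show d * (τ0 : Γ) * (y : Γ) * (d * τ0) = ((τ0 * y * τ0 : ↥(Yd G₀ d)) : Γ) by
      rw [mul_assoc d, ← Subgroup.coe_mul, (comm_d (τ0 * y)).eq, mul_assoc, S.d_mul_cancel, ← Subgroup.coe_mul]]
      at h1
    exact Subgroup.mem_subgroupOf.2 h1
  have hcov : ∀ y : ↥(Yd G₀ d), y ∈ M ∨ y * τ0 ∈ M := by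
    intro y
    induction (show y ∈ Subgroup.closure T by rw [S.setup.grp.2.2]; trivial) using Subgroup.closure_induction with
    | mem x hx =>
      right
      refine Subgroup.mem_subgroupOf.2 ?_
      have h1 := mul_mem (hTL x hx) (hTL τ0 hτ0)
      rwa [(comm_d x).eq, mul_assoc, S.d_mul_cancel] at h1
    | one => exact Or.inl (one_mem _)
    | mul u v _ _ hu hv =>
      rcases hu with hu | hu <;> rcases hv with hv | hv
      · exact Or.inl (mul_mem hu hv)
      · exact Or.inr (by rw [mul_assoc]; exact mul_mem hu hv)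
      · right
        have := mul_mem hu (hconj hv)
        rwa [show u * τ0 * (τ0 * v * τ0) = u * (τ0 * τ0) * (v * τ0) by simp only [mul_assoc], hsq0, mul_one,
          ← mul_assoc] at this
      · left
        have := mul_mem hu (hconj hv)
        rwa [show u * τ0 * (τ0 * (v * τ0) * τ0) = u * (τ0 * τ0) * v * (τ0 * τ0) by simp only [mul_assoc], hsq0,
          mul_one, mul_one] at this
    | inv u _ hu =>
      rcases hu with hu | hu
      · exact Or.inl (inv_mem hu)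
      · right
        have := hconj (inv_mem hu)
        rwa [show τ0 * (u * τ0)⁻¹ * τ0 = u⁻¹ * τ0 by
          rw [mul_inv_rev, inv_eq_of_mul_eq_one_left hsq0, ← mul_assoc, hsq0, one_mul]] at this
  have htop : M = ⊤ := by
    by_cases h0 : τ0 ∈ M
    · refine eq_top_iff.2 fun y _ => ?_
      rcases hcov y with h | h
      · exact h
      · simpa [mul_assoc, hsq0] using mul_mem h h0
    · exfalso
      have hidx : M.index = 2 := Subgroup.index_eq_two_iff.2 ⟨τ0, fun y => by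
        rcases hcov y with h | h
        · exact Or.inr ⟨h, fun h' => h0 (by simpa using mul_mem (inv_mem h) h')⟩
        · exact Or.inl ⟨h, fun h' => h0 (by simpa using mul_mem (inv_mem h') h)⟩⟩
      have hle : commutator ↥(Yd G₀ d) ≤ M := by
        rw [commutator_def, Subgroup.commutator_le]
        intro a _ b _
        simp only [commutatorElement_def, Subgroup.mul_mem_iff_of_index_two hidx, inv_mem_iff]
        tauto
      rw [FischerM23.commutator_eq_top S.setup] at hle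
      exact h0 (hle trivial)
  have hYL : ∀ y : ↥(Yd G₀ d), (y : Γ) ∈ L := fun y =>
    Subgroup.mem_subgroupOf.1 (show y ∈ M by rw [htop]; trivial)
  have hdL : d ∈ L := by simpa using mul_mem (hTL τ0 hτ0) (inv_mem (hYL τ0))
  intro x hx
  have hxd := Subgroup.mem_centralizer_singleton_iff.1 hx
  by_cases hxG : x ∈ G₀
  · exact hYL ⟨x, hxG, hx⟩
  · have hY : d * x ∈ Yd G₀ d :=
      ⟨(Subgroup.mul_mem_iff_of_index_two S.idx).2 (iff_of_false S.out hxG),
        Subgroup.mem_centralizer_singleton_iff.2 (by rw [mul_assoc, hxd])⟩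
    have := mul_mem hdL (hYL ⟨_, hY⟩)
    rwa [show d * ((⟨_, hY⟩ : ↥(Yd G₀ d)) : Γ) = x from S.d_mul_cancel x] at this

/-- The local picture everywhere. -/
theorem localCls : LocalCls (conjugatesOf d) T := by
  refine ⟨S.setup, S.conj_closed, fun a ha => ?_, fun a ha => ?_, fun a ha => ?_⟩ <;>
    obtain ⟨g, rfl⟩ := isConj_iff.1 (show IsConj d a from ha)
  · rw [← S.d_order]; exact (MulAut.conj g).orderOf_eq d
  · have hadj := adj_conj_image S.conj_closed g d
    have hc : ∀ {x y : Γ}, Commute (g * x * g⁻¹) (g * y * g⁻¹) ↔ Commute x y := fun {x y} =>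
      ⟨fun h => Commute.of_map (f := (MulAut.conj g).toMonoidHom) (MulAut.conj g).injective h,
        fun h => h.map (MulAut.conj g).toMonoidHom⟩
    have hb : ∀ x : Γ, g⁻¹ * (g * x * g⁻¹) * g = x := fun x => by group
    have M := S.model
    refine ⟨fun x => pr G₀ d (g⁻¹ * x * g), ⟨?_, ?_, ?_, ?_⟩, ?_⟩
    · rw [hadj]
      rintro _ ⟨x, hx, rfl⟩ _ ⟨y, hy, rfl⟩ h
      simp only [hb] at h
      rw [M.inj hx hy h]
    · rw [hadj, Set.image_image]
      simp only [hb]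
      exact M.image
    · rw [hadj]
      rintro _ ⟨x, hx, rfl⟩ _ ⟨y, hy, rfl⟩
      simp only [hb]
      rw [hc]
      exact M.comm x hx y hy
    · rw [hadj]
      rintro _ ⟨x, hx, rfl⟩ _ ⟨y, hy, rfl⟩ h
      have h1 := congrArg (fun w => g * w * g⁻¹) (M.braid x hx y hy fun e => h (hc.2 e))
      simpa [mul_assoc] using h1
    · rw [hadj]
      rintro _ ⟨x, hx, rfl⟩ _ ⟨y, hy, rfl⟩
      simp only [hb]
      rw [← M.mul x hx y hy]
      congr 1
      group
  · have h1 : Loc (conjugatesOf d) (g * d * g⁻¹) = (Loc (conjugatesOf d) d).map (MulAut.conj g).toMonoidHom := by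
      show Subgroup.closure (adj (conjugatesOf d) (g * d * g⁻¹)) = (Subgroup.closure _).map _
      rw [MonoidHom.map_closure, adj_conj_image S.conj_closed g d]
      rfl
    rw [h1, S.loc_eq]
    ext x
    constructor
    · rintro ⟨y, hy, rfl⟩
      exact Subgroup.mem_centralizer_singleton_iff.2
        ((show Commute y d from Subgroup.mem_centralizer_singleton_iff.1 hy).map (MulAut.conj g).toMonoidHom).eq
    · intro hx
      refine ⟨g⁻¹ * x * g, Subgroup.mem_centralizer_singleton_iff.2 ?_, show g * (g⁻¹ * x * g) * g⁻¹ = x by group⟩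
      calc g⁻¹ * x * g * d = g⁻¹ * (x * (g * d * g⁻¹)) * g := by group
        _ = g⁻¹ * ((g * d * g⁻¹) * x) * g := by rw [Subgroup.mem_centralizer_singleton_iff.1 hx]
        _ = d * (g⁻¹ * x * g) := by group

/-- The conjugates commuting with the product form one orbit of its centraliser. -/
theorem mem_cent_iff {e : Γ} : e ∈ conjugatesOf d ∧ Commute e z ↔ ∃ k, Commute k z ∧ k * d * k⁻¹ = e := by
  obtain ⟨x0, hx0, hx0z⟩ := S.triple
  have hzd : Commute d z := hx0z ▸ comm_d x0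
  constructor
  · rintro ⟨he, hez⟩
    obtain ⟨h, hh, rfl⟩ := S.exists_inner he
    set w := h⁻¹ * z * h with hw
    have hwd : Commute w d := by
      have h1 := hez.symm.map (MulAut.conj h⁻¹).toMonoidHom
      simpa [mul_assoc, hw] using h1
    have hzG : z ∈ G₀ := hx0z ▸ x0.2.1
    have hwY : w ∈ Yd G₀ d :=
      ⟨(show h⁻¹ * z * h ∈ G₀ from mul_mem (mul_mem (inv_mem hh) hzG) hh), Subgroup.mem_centralizer_singleton_iff.2 hwd.eq⟩
    have hz2 : z * z = 1 := by
      rw [← hx0z, ← Subgroup.coe_mul, ← pow_two]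
      exact congrArg Subtype.val (by rw [← FischerM23.prod_order S.setup (by norm_num) le_rfl hx0, pow_orderOf_eq_one] :
        x0 ^ 2 = 1)
    have hzw : h * w * h⁻¹ = z := by rw [hw]; group
    obtain ⟨m, h1, h3, hm⟩ := FischerM23.involution_prod S.setup (x := (⟨w, hwY⟩ : ↥(Yd G₀ d)))
      (Subtype.ext (by
        show w * w = 1
        calc w * w = h⁻¹ * (z * z) * h := by rw [hw]; group
          _ = 1 := by rw [hz2, mul_one, inv_mul_cancel]))
      (fun e => by
        have e1 : w = 1 := congrArg Subtype.val e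
        have e2 : z = 1 := by rw [← hzw, e1, mul_one, mul_inv_cancel]
        exact FischerM23.prod_ne_one S.setup (by norm_num) le_rfl hx0 (Subtype.ext (hx0z.trans e2)))
    rcases (by omega : m = 1 ∨ m = 2 ∨ m = 3) with rfl | rfl | rfl
    · exact absurd hzw (S.znc h hh _ (Or.inl hm))
    · exact absurd hzw (S.znc h hh _ (Or.inr hm))
    · obtain ⟨y, hy⟩ := isConj_iff.1 (FischerM23.prod_conj S.setup (by norm_num) le_rfl hx0 hm)
      have hy' : (y : Γ) * z * (y : Γ)⁻¹ = w := by rw [← hx0z]; exact congrArg Subtype.val hy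
      refine ⟨h * y, ?_, ?_⟩
      · show h * (y : Γ) * z = z * (h * y)
        have h4 : h * (y : Γ) * z * (h * y)⁻¹ = z := by
          rw [show h * (y : Γ) * z * (h * y)⁻¹ = h * ((y : Γ) * z * (y : Γ)⁻¹) * h⁻¹ by group, hy', hzw]
        exact mul_inv_eq_iff_eq_mul.1 h4
      · rw [show h * (y : Γ) * d * (h * y)⁻¹ = h * ((y : Γ) * d * (y : Γ)⁻¹) * h⁻¹ by group, ← (comm_d y).eq,
          mul_inv_cancel_right]
  · rintro ⟨k, hk, rfl⟩
    refine ⟨S.conj_closed k d S.self_mem, ?_⟩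
    have h1 := hzd.map (MulAut.conj k).toMonoidHom
    simp only [MulEquiv.coe_toMonoidHom, MulAut.conj_apply] at h1
    rwa [hk.eq, mul_inv_cancel_right] at h1

/-- The centraliser of a product of three is large. -/
theorem triple_cent {x0 : ↥(Yd G₀ d)} (hx0 : IsProd T 3 x0) :
    318504960 ≤ Nat.card ↥(Subgroup.centralizer ({x0} : Set ↥(Yd G₀ d))) := by
  classical
  have := Fintype.ofFinite ↥(Yd G₀ d)
  have hS := S.setup
  set P : Set ↥(Yd G₀ d) := {w | ∃ g : ↥(Yd G₀ d), g * x0 * g⁻¹ = w} with hP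
  have h := card_orbit_mul (⊤ : Subgroup ↥(Yd G₀ d)) x0 x0
  rw [Subgroup.card_top, top_inf_eq, inf_idem, FischerM23.group_card hS] at h
  have hq : {q : ↥(Yd G₀ d) × ↥(Yd G₀ d) | ∃ g ∈ (⊤ : Subgroup ↥(Yd G₀ d)),
      g * x0 * g⁻¹ = q.1 ∧ g * x0 * g⁻¹ = q.2}.ncard = P.ncard := by
    rw [← Set.ncard_image_of_injective P (f := fun x => (x, x)) fun x y h => congrArg Prod.fst h]
    congr 1
    ext ⟨x, y⟩
    constructor
    · rintro ⟨g, -, e1, e2⟩
      exact ⟨x, ⟨g, e1⟩, by rw [show y = x from e2.symm.trans e1]⟩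
    · rintro ⟨w, ⟨g, hg⟩, he⟩
      obtain ⟨rfl, rfl⟩ := Prod.mk.inj he
      exact ⟨g, Subgroup.mem_top _, hg, hg⟩
  rw [hq] at h
  set A := {p : ↥(Yd G₀ d) × ↥(Yd G₀ d) × ↥(Yd G₀ d) | IsTriple T p.1 p.2.1 p.2.2} with hA
  have hA1 : A.toFinset.card ≤ 77037490530 := by
    rw [← Set.ncard_eq_toFinset_card']
    let f : ↥A → (Σ a : ↥T, Σ b : ↥(adj T (a : ↥(Yd G₀ d))),
        ↥(adj T (a : ↥(Yd G₀ d)) ∩ adj T (b : ↥(Yd G₀ d)))) := fun p =>
      ⟨⟨p.1.1, p.2.1⟩, ⟨p.1.2.1, p.2.2.1, p.2.2.2.2.1.symm, p.2.2.2.2.2.2.2.1⟩,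
        ⟨p.1.2.2, ⟨p.2.2.2.1, p.2.2.2.2.2.1.symm, p.2.2.2.2.2.2.2.2.1⟩,
          ⟨p.2.2.2.1, p.2.2.2.2.2.2.1.symm, p.2.2.2.2.2.2.2.2.2⟩⟩⟩
    let g : (Σ a : ↥T, Σ b : ↥(adj T (a : ↥(Yd G₀ d))),
        ↥(adj T (a : ↥(Yd G₀ d)) ∩ adj T (b : ↥(Yd G₀ d)))) → ↥(Yd G₀ d) × ↥(Yd G₀ d) × ↥(Yd G₀ d) :=
      fun q => (q.1.1, q.2.1.1, q.2.2.1)
    have hf : Function.Injective f := fun p q e => Subtype.ext (congrArg g e : g (f p) = g (f q))
    have h1 := Nat.card_le_card_of_injective f hf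
    rw [Nat.card_coe_set_eq, Nat.card_sigma] at h1
    refine h1.trans (le_of_eq ?_)
    have h2 : ∀ a : ↥T, Nat.card (Σ b : ↥(adj T (a : ↥(Yd G₀ d))),
        ↥(adj T (a : ↥(Yd G₀ d)) ∩ adj T (b : ↥(Yd G₀ d)))) = 2432430 := fun a => by
      rw [Nat.card_sigma, Finset.sum_congr rfl (fun (b : ↥(adj T (a : ↥(Yd G₀ d)))) _ =>
        show _ = 693 by rw [Nat.card_coe_set_eq, FischerM23.common_ncard hS a.2 b.2]),
        Finset.sum_const, smul_eq_mul, Finset.card_univ, ← Nat.card_eq_fintype_card, Nat.card_coe_set_eq,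
        FischerM23.adj_ncard hS a.2]
    rw [Finset.sum_congr rfl (fun a _ => h2 a), Finset.sum_const, smul_eq_mul, Finset.card_univ,
      ← Nat.card_eq_fintype_card, Nat.card_coe_set_eq, FischerM23.class_ncard hS]
  have hPA : P.toFinset ⊆ A.toFinset.image fun p => p.1 * p.2.1 * p.2.2 := by
    intro w hw
    rw [Set.mem_toFinset] at hw
    obtain ⟨g, rfl⟩ := hw
    obtain ⟨e, -⟩ | ⟨e, -⟩ | ⟨-, a, b, c, hT, rfl⟩ := isProd_cases (by norm_num) le_rfl hx0
    · omega
    · omega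
    obtain ⟨ha, hb, hc, n1, n2, n3, c1, c2, c3⟩ := hT
    refine Finset.mem_image.2 ⟨(g * a * g⁻¹, g * b * g⁻¹, g * c * g⁻¹), Set.mem_toFinset.2 ⟨hS.conj_mem g ha,
      hS.conj_mem g hb, hS.conj_mem g hc, fun e => n1 (mul_left_cancel (mul_right_cancel e)),
      fun e => n2 (mul_left_cancel (mul_right_cancel e)), fun e => n3 (mul_left_cancel (mul_right_cancel e)),
      c1.map (MulAut.conj g).toMonoidHom, c2.map (MulAut.conj g).toMonoidHom,
      c3.map (MulAut.conj g).toMonoidHom⟩, by group⟩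
  have h6 : 6 * (A.toFinset.image fun p => p.1 * p.2.1 * p.2.2).card ≤ A.toFinset.card := by
    refine Finset.mul_card_image_le_card _ 6 fun w hw => ?_
    obtain ⟨⟨a, b, c⟩, hp, rfl⟩ := Finset.mem_image.1 hw
    rw [Set.mem_toFinset] at hp
    obtain ⟨ha, hb, hc, n1, n2, n3, c1, c2, c3⟩ := hp
    have e1 : a * c * b = a * b * c := by rw [mul_assoc, ← c3.eq, mul_assoc]
    have e2 : b * a * c = a * b * c := by rw [← c1.eq]
    have e3 : b * c * a = a * b * c := by rw [mul_assoc b, ← c2.eq, ← mul_assoc, ← c1.eq]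
    have e4 : c * a * b = a * b * c := by rw [← c2.eq, e1]
    have e5 : c * b * a = a * b * c := by rw [← c3.eq, e3]
    refine le_trans (b := ({(a, b, c), (a, c, b), (b, a, c), (b, c, a), (c, a, b), (c, b, a)} :
      Finset (↥(Yd G₀ d) × ↥(Yd G₀ d) × ↥(Yd G₀ d))).card) ?_ (Finset.card_le_card fun y hy => ?_)
    · simp [n1, n2, n3, n1.symm, n2.symm, n3.symm]
    · rw [Finset.mem_filter, Set.mem_toFinset]
      simp only [Finset.mem_insert, Finset.mem_singleton] at hy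
      rcases hy with rfl | rfl | rfl | rfl | rfl | rfl
      · exact ⟨⟨ha, hb, hc, n1, n2, n3, c1, c2, c3⟩, rfl⟩
      · exact ⟨⟨ha, hc, hb, n2, n1, n3.symm, c2, c1, c3.symm⟩, e1⟩
      · exact ⟨⟨hb, ha, hc, n1.symm, n3, n2, c1.symm, c3, c2⟩, e2⟩
      · exact ⟨⟨hb, hc, ha, n3, n1.symm, n2.symm, c3, c1.symm, c2.symm⟩, e3⟩
      · exact ⟨⟨hc, ha, hb, n2.symm, n3.symm, n1, c2.symm, c3.symm, c1⟩, e4⟩
      · exact ⟨⟨hc, hb, ha, n3.symm, n2.symm, n1.symm, c3.symm, c2.symm, c1.symm⟩, e5⟩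
  have hP6 : 6 * P.ncard ≤ 77037490530 := by
    rw [Set.ncard_eq_toFinset_card']
    have := Finset.card_le_card hPA
    omega
  by_contra hlt
  have := Nat.mul_le_mul hP6 (show Nat.card ↥(Subgroup.centralizer ({x0} : Set ↥(Yd G₀ d))) ≤ 318504959 by omega)
  rw [mul_assoc, ← h] at this
  omega

/-- At most 504 conjugates commute with the product. -/
theorem cent_le : {e | e ∈ conjugatesOf d ∧ Commute e z}.ncard ≤ 504 := by
  obtain ⟨x0, hx0, hx0z⟩ := S.triple
  have h := card_orbit_mul (Subgroup.centralizer ({z} : Set Γ)) d d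
  rw [inf_assoc, inf_idem, S.zcard] at h
  have hq : {q : Γ × Γ | ∃ g ∈ Subgroup.centralizer ({z} : Set Γ), g * d * g⁻¹ = q.1 ∧ g * d * g⁻¹ = q.2}.ncard =
      {e | e ∈ conjugatesOf d ∧ Commute e z}.ncard := by
    rw [← Set.ncard_image_of_injective {e | e ∈ conjugatesOf d ∧ Commute e z} (f := fun x => (x, x))
      fun x y h => congrArg Prod.fst h]
    congr 1
    ext ⟨x, y⟩
    constructor
    · rintro ⟨g, hg, e1, e2⟩
      exact ⟨x, S.mem_cent_iff.2 ⟨g, Subgroup.mem_centralizer_singleton_iff.1 hg, e1⟩,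
        by rw [show y = x from e2.symm.trans e1]⟩
    · rintro ⟨w, hw, he⟩
      obtain ⟨rfl, rfl⟩ := Prod.mk.inj he
      obtain ⟨g, hg, e⟩ := S.mem_cent_iff.1 hw
      exact ⟨g, Subgroup.mem_centralizer_singleton_iff.2 hg.eq, e, e⟩
  rw [hq] at h
  let f : ↥(Subgroup.centralizer ({x0} : Set ↥(Yd G₀ d))) × Bool →
      ↥(Subgroup.centralizer ({z} : Set Γ) ⊓ Subgroup.centralizer ({d} : Set Γ)) := fun p =>
    ⟨if p.2 then ((p.1 : ↥(Yd G₀ d)) : Γ) * d else ((p.1 : ↥(Yd G₀ d)) : Γ), by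
      have h1 : Commute ((p.1 : ↥(Yd G₀ d)) : Γ) z := by
        rw [← hx0z]; exact congrArg Subtype.val (Subgroup.mem_centralizer_singleton_iff.1 p.1.2)
      split_ifs
      · exact ⟨Subgroup.mem_centralizer_singleton_iff.2 (h1.mul_left (hx0z ▸ comm_d x0)).eq,
          Subgroup.mem_centralizer_singleton_iff.2 ((comm_d _).symm.mul_left (Commute.refl d)).eq⟩
      · exact ⟨Subgroup.mem_centralizer_singleton_iff.2 h1.eq,
          Subgroup.mem_centralizer_singleton_iff.2 (comm_d _).eq.symm⟩⟩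
  have hf : Function.Injective f := by
    rintro ⟨y, b⟩ ⟨y', b'⟩ e
    have e' : (if b then ((y : ↥(Yd G₀ d)) : Γ) * d else _) = (if b' then ((y' : ↥(Yd G₀ d)) : Γ) * d else _) :=
      congrArg Subtype.val e
    have hbad : ∀ u v : ↥(Yd G₀ d), (u : Γ) * d ≠ (v : Γ) := fun u v h =>
      S.out ((Subgroup.mul_mem_cancel_left _ u.2.1).1 (h ▸ v.2.1))
    rcases b <;> rcases b' <;> simp only [if_true, if_false, Bool.false_eq_true] at e'
    · rw [Subtype.ext (Subtype.ext e')]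
    · exact absurd e'.symm (hbad _ _)
    · exact absurd e' (hbad _ _)
    · rw [Subtype.ext (Subtype.ext (mul_right_cancel e'))]
  have h2 := Nat.card_le_card_of_injective f hf
  rw [Nat.card_prod, show Nat.card Bool = 2 by simp] at h2
  have h3 := S.triple_cent hx0
  have h4 : {e | e ∈ conjugatesOf d ∧ Commute e z}.ncard * 637009920 ≤ 321052999680 := by
    rw [h]
    exact Nat.mul_le_mul_left _ (by omega)
  omega

end Seed

end Cfsg.Agent.TransCentFi24
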