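/-
Members at distance two have more than 1620 common neighbours: every component of their common neighbours is a
chart with 1080 members, and the conjugates commuting with a product of four show that there are two (helper79).

Main results (namespace `Cfsg.Agent.TransCentFi24`):
* `LocalCls.comp_chart`;
* `Seed.exists_far`, `Seed.not_connected`, `Seed.wide`.
-/
import Cfsg.Agent.Lib.TransCentFi24.Seed
import Cfsg.Agent.Lib.TransCentFi24.ChartBound

set_option autoImplicit false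
set_option linter.unusedSectionVars false

namespace Cfsg.Agent.TransCentFi24

open Cfsg Cfsg.Agent.ThreeTrans
open Cfsg.Agent.FischerM22 (IsProd isProd_one isProd_two isProd_three isProd_cases IsTriple adj_symm sum_card_filter)

variable {Γ : Type*} [Group Γ] [Finite Γ]

theorem central_of_setup {G : Type*} [Group G] [Finite G] {E : Set G} (S : FischerM23.Fi23Setup E) :
    FischerMain.Central E where
  cls := S.cls
  rad := FischerM23.trivialRadical S
  two := S.two_members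
  conn := S.conn
  ne _ hq := S.adj_nonempty hq
  loc _ hq := S.loc_cores hq

namespace LocalCls

variable {G : Type*} [Group G] [Finite G] {D : Set Γ} {E : Set G}

theorem common_stable (S : LocalCls D E) {a e g b : Γ} (hga : Commute g a) (hge : Commute g e)
    (hb : b ∈ common D a e) : g * b * g⁻¹ ∈ common D a e := by
  have ea : g * a * g⁻¹ = a := by rw [hga.eq, mul_inv_cancel_right]
  have ee : g * e * g⁻¹ = e := by rw [hge.eq, mul_inv_cancel_right]
  refine ⟨⟨S.conj g b hb.1.1, fun h => hb.1.2.1 ?_, ?_⟩, ⟨S.conj g b hb.1.1, fun h => hb.2.2.1 ?_, ?_⟩⟩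
  · exact mul_left_cancel (mul_right_cancel (h.trans ea.symm))
  · have h1 := hb.1.2.2.map (MulAut.conj g).toMonoidHom
    simp only [MulEquiv.coe_toMonoidHom, MulAut.conj_apply] at h1
    rwa [ea] at h1
  · exact mul_left_cancel (mul_right_cancel (h.trans ee.symm))
  · have h1 := hb.2.2.2.map (MulAut.conj g).toMonoidHom
    simp only [MulEquiv.coe_toMonoidHom, MulAut.conj_apply] at h1
    rwa [ee] at h1

/-- The common neighbours near one of them are a chart of dimension seven. -/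
theorem loc_chart (S : LocalCls D E) {a e v : Γ} (ha : a ∈ D) (he : e ∈ D) (hae : ¬ Commute a e)
    (hv : v ∈ common D a e) :
    ∃ (Q : QuadraticForm (ZMod 3) (Fin 7 → ZMod 3)) (c : ZMod 3) (ψ : (Fin 7 → ZMod 3) → Γ),
      FischerMain.Chart3 (adj (common D a e) v) Q c ψ ∧ polarGramDet ⇑Q = -c := by
  obtain ⟨π, M⟩ := S.model v hv.1.1
  have hva := adj_symm ha hv.1
  have hve := adj_symm he hv.2
  have hA := TransCentFi23.LocalCls.mem_class M.toNbrModel hva
  have hB := TransCentFi23.LocalCls.mem_class M.toNbrModel hve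
  obtain ⟨Q, c, ψ, hψ, hd⟩ := FischerMain.common_chart23 (central_of_setup S.setup) hA
    (S.setup.localSetup hA).type22 hA hB fun h => hae ((M.comm a hva e hve).1 h)
  have hset : adj D v ∩ adj D a ∩ adj D e = adj (common D a e) v := by
    rw [FischerMain.adj_common hv]
    ext y
    exact ⟨fun h => ⟨⟨h.1.2, h.2⟩, h.1.1⟩, fun h => ⟨⟨h.2, h.1.1⟩, h.1.2⟩⟩
  rw [show common E (π a) (π e) = π '' (adj D v ∩ adj D a ∩ adj D e) from
    TransCentFi23.LocalCls.map_common M.toNbrModel hva hve, hset] at hψ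
  have hsub : adj (common D a e) v ⊆ adj D v := fun y hy => ⟨hy.1.1.1, hy.2⟩
  obtain ⟨φ, hφ⟩ := FischerMain.Chart3.pullBack π hψ (M.inj.mono hsub)
    (fun p hp q hq => by
      have h1 : p * q * p⁻¹ ∈ common D a e := S.common_stable hp.1.1.2.2.symm hp.1.2.2.2.symm hq.1
      have h2 : Commute v (p * q * p⁻¹) := (hp.2.2.mul_right hq.2.2).mul_right hp.2.2.inv_right
      have h3 : p * q * p⁻¹ ≠ v := fun h => hq.2.1 (by
        calc q = p⁻¹ * (p * q * p⁻¹) * p := by group
          _ = v := by rw [h, mul_assoc, hp.2.2.eq, inv_mul_cancel_left])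
      rw [S.inv_eq hp.1.1.1] at h1 h2 h3
      exact ⟨h1, h3, h2⟩)
    (fun p hp q hq => M.comm p (hsub hp) q (hsub hq)) fun p hp q hq => M.mul p (hsub hp) q (hsub hq)
  exact ⟨Q, c, φ, hφ, hd⟩

/-- The common neighbours are locally charts. -/
theorem partO3 (S : LocalCls D E) {a e : Γ} (ha : a ∈ D) (he : e ∈ D) (hae : ¬ Commute a e) :
    FischerMain.PartO3 (common D a e) 7 where
  set := ⟨fun p hp => S.order p hp.1.1, fun p hp q hq => by
    by_cases hc : Commute p q
    · left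
      rw [hc.mul_pow, pow_two, pow_two, S.mul_self hp.1.1, S.mul_self hq.1.1, one_mul]
    · right
      have hb := S.braid ha hp.1 hq.1 hc
      calc (p * q) ^ 3 = p * q * p * (q * p * q) := by simp [pow_succ, mul_assoc]
        _ = p * q * p * (p * q * p) := by rw [hb]
        _ = 1 := by simp [mul_assoc, S.mul_self_cancel hp.1.1, S.mul_self_cancel hq.1.1, S.mul_self hp.1.1]⟩
  closed := fun p hp q hq => by
    have h1 := S.common_stable hp.1.2.2.symm hp.2.2.2.symm hq
    rwa [S.inv_eq hp.1.1] at h1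
  stable := fun g hg b hb => by
    have hcomm : Commute g a ∧ Commute g e := by
      induction hg using Subgroup.closure_induction with
      | mem w hw => exact ⟨hw.1.2.2.symm, hw.2.2.2.symm⟩
      | one => exact ⟨Commute.one_left a, Commute.one_left e⟩
      | mul u w _ _ hu hw => exact ⟨hu.1.mul_left hw.1, hu.2.mul_left hw.2⟩
      | inv u _ hu => exact ⟨hu.1.inv_left, hu.2.inv_left⟩
    exact S.common_stable hcomm.1 hcomm.2 hb
  five := by norm_num
  loc v hv := by
    obtain ⟨Q, c, ψ, hψ, -⟩ := S.loc_chart ha he hae hv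
    exact ⟨Q, c, ψ, hψ⟩

/-- A component of the common neighbours is a chart with 1080 members. -/
theorem comp_chart (S : LocalCls D E) {a e v : Γ} (ha : a ∈ D) (he : e ∈ D) (hae : ¬ Commute a e)
    (hv : v ∈ common D a e) :
    ∃ (Q : QuadraticForm (ZMod 3) (Fin 8 → ZMod 3)) (c : ZMod 3) (ψ : (Fin 8 → ZMod 3) → Γ),
      FischerMain.Chart3 (FischerMain.comp (common D a e) v) Q c ψ ∧
        (FischerMain.comp (common D a e) v).ncard = 1080 := by
  have hC := (S.partO3 ha he hae).comp_locO3 hv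
  obtain ⟨Q, c, ψ, hψ, hd⟩ := S.loc_chart ha he hae hv
  rw [← FischerMain.adj_comp (FischerMain.self_mem_comp hv)] at hψ
  obtain ⟨Q', ψ', hψ', hd'⟩ := hC.recognise (FischerMain.self_mem_comp hv) hψ
  have hd1 : polarGramDet ⇑Q' = 1 := by
    rw [hd', hd]
    linear_combination (-2 : ZMod 3) * FischerMain.sq_z3 hψ.c_ne - FischerMain.three_z3
  exact ⟨Q', c, ψ', hψ', hψ'.ncard_eight hd1⟩

end LocalCls

namespace Seed

variable {G₀ : Subgroup Γ} {d z : Γ} {T : Set ↥(Yd G₀ d)}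

theorem adj_image (S : Seed G₀ d z T) (g x : Γ) :
    adj (conjugatesOf d) (g * x * g⁻¹) = MulAut.conj g '' adj (conjugatesOf d) x := by
  rw [adj_conj_image S.conj_closed]; rfl

/-- Any two pairs at distance two are conjugate. -/
theorem far_trans (S : Seed G₀ d z T) {a e a' e' : Γ} (ha : a ∈ conjugatesOf d) (he : e ∈ conjugatesOf d)
    (hn : ¬ Commute a e) (hne : (common (conjugatesOf d) a e).Nonempty) (ha' : a' ∈ conjugatesOf d)
    (he' : e' ∈ conjugatesOf d) (hn' : ¬ Commute a' e') (hne' : (common (conjugatesOf d) a' e').Nonempty) :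
    ∃ g, g * a * g⁻¹ = a' ∧ g * e * g⁻¹ = e' := by
  have base : ∀ {a e}, a ∈ conjugatesOf d → e ∈ conjugatesOf d → ¬ Commute a e →
      (common (conjugatesOf d) a e).Nonempty →
      ∃ h, ∃ τ ∈ T, ∃ σ ∈ T, ¬ Commute τ σ ∧ a = h * (d * (τ : Γ)) * h⁻¹ ∧ e = h * (d * (σ : Γ)) * h⁻¹ := by
    rintro a e ha he hn ⟨q, hq⟩
    obtain ⟨h, rfl⟩ := isConj_iff.1 (show IsConj d q from hq.1.1)
    have h1 := adj_symm ha hq.1
    have h2 := adj_symm he hq.2
    rw [S.adj_image, S.adj_eq] at h1 h2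
    obtain ⟨_, ⟨τ, hτ, rfl⟩, rfl⟩ := h1
    obtain ⟨_, ⟨σ, hσ, rfl⟩, rfl⟩ := h2
    exact ⟨h, τ, hτ, σ, hσ, fun hc => hn (((S.shift_comm τ σ).2 hc).map (MulAut.conj h)), rfl, rfl⟩
  obtain ⟨h, τ, hτ, σ, hσ, hts, rfl, rfl⟩ := base ha he hn hne
  obtain ⟨h', τ', hτ', σ', hσ', hts', rfl, rfl⟩ := base ha' he' hn' hne'
  obtain ⟨y, hy⟩ := class_conj S.setup.cls hτ hτ'
  have hn2 : ¬ Commute τ' (y * σ * y⁻¹) := fun hc => hts (by
    rw [← hy] at hc
    exact hc.of_map (f := (MulAut.conj y).toMonoidHom) (MulAut.conj y).injective)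
  obtain ⟨y', hy', hy''⟩ := FischerM23.centralizer_transitive S.setup hτ' (S.setup.conj_mem y hσ) hσ' hn2 hts'
  set c : ↥(Yd G₀ d) := y' * y with hc
  have e1 : c * τ * c⁻¹ = τ' := by
    rw [hc, show y' * y * τ * (y' * y)⁻¹ = y' * (y * τ * y⁻¹) * y'⁻¹ by group, hy, hy'.eq, mul_inv_cancel_right]
  have e2 : c * σ * c⁻¹ = σ' := by
    rw [hc, show y' * y * σ * (y' * y)⁻¹ = y' * (y * σ * y⁻¹) * y'⁻¹ by group, hy'']
  clear_value c
  clear hc
  have key : ∀ u : ↥(Yd G₀ d), h' * (c : Γ) * h⁻¹ * (h * (d * (u : Γ)) * h⁻¹) * (h' * (c : Γ) * h⁻¹)⁻¹ =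
      h' * (d * ((c * u * c⁻¹ : ↥(Yd G₀ d)) : Γ)) * h'⁻¹ := fun u => by
    rw [Subgroup.coe_mul, Subgroup.coe_mul, Subgroup.coe_inv]
    calc _ = h' * ((c : Γ) * d * (c : Γ)⁻¹ * ((c : Γ) * u * (c : Γ)⁻¹)) * h'⁻¹ := by group
      _ = _ := by rw [← (comm_d c).eq, mul_inv_cancel_right]
  exact ⟨h' * (c : Γ) * h⁻¹, by rw [key, e1], by rw [key, e2]⟩

/-- The conjugates commuting with the product near `d`. -/
theorem near_cent (S : Seed G₀ d z T) {x0 : ↥(Yd G₀ d)} (hx0z : (x0 : Γ) = z) :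
    adj (conjugatesOf d) d ∩ {e | e ∈ conjugatesOf d ∧ Commute e z} =
      (fun τ : ↥(Yd G₀ d) => d * (τ : Γ)) '' {τ | τ ∈ T ∧ Commute τ x0} := by
  rw [S.adj_eq]
  ext e
  constructor
  · rintro ⟨⟨τ, hτ, rfl⟩, -, hc⟩
    refine ⟨τ, ⟨hτ, ?_⟩, rfl⟩
    have h1 : Commute d z := hx0z ▸ comm_d x0
    have h2 := h1.mul_left hc
    rw [S.d_mul_cancel, ← hx0z] at h2
    exact Subtype.ext h2
  · rintro ⟨τ, ⟨hτ, hc⟩, rfl⟩
    exact ⟨⟨τ, hτ, rfl⟩, S.shift τ hτ, hx0z ▸ (comm_d x0).mul_left (congrArg Subtype.val hc)⟩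

theorem near_card (S : Seed G₀ d z T) :
    (adj (conjugatesOf d) d ∩ {e | e ∈ conjugatesOf d ∧ Commute e z}).ncard = 183 := by
  obtain ⟨x0, hx0, hx0z⟩ := S.triple
  rw [S.near_cent hx0z, Set.ncard_image_of_injective _ fun u v e => Subtype.ext (mul_left_cancel e)]
  have := FischerM23.commuting_count S.setup (by norm_num) le_rfl hx0
  omega

theorem near_card_all (S : Seed G₀ d z T) {p : Γ} (hp : p ∈ conjugatesOf d) (hpz : Commute p z) :
    (adj (conjugatesOf d) p ∩ {e | e ∈ conjugatesOf d ∧ Commute e z}).ncard = 183 := by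
  obtain ⟨k, hk, rfl⟩ := S.mem_cent_iff.1 ⟨hp, hpz⟩
  have himg : {e | e ∈ conjugatesOf d ∧ Commute e z} = MulAut.conj k '' {e | e ∈ conjugatesOf d ∧ Commute e z} := by
    ext e
    constructor
    · intro he
      obtain ⟨l, hl, rfl⟩ := S.mem_cent_iff.1 he
      exact ⟨k⁻¹ * l * d * (k⁻¹ * l)⁻¹, S.mem_cent_iff.2 ⟨k⁻¹ * l, hk.inv_left.mul_left hl, rfl⟩,
        by simp [mul_assoc]⟩
    · rintro ⟨e, he, rfl⟩
      obtain ⟨l, hl, rfl⟩ := S.mem_cent_iff.1 he
      exact S.mem_cent_iff.2 ⟨k * l, hk.mul_left hl, by simp [mul_assoc]⟩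
  rw [S.adj_image, himg, ← Set.image_inter (MulAut.conj k).injective,
    Set.ncard_image_of_injective _ (MulAut.conj k).injective, S.near_card]

set_option maxHeartbeats 1000000 in
/-- A member commuting with the product, at distance two from `d`, with many such common neighbours. -/
theorem exists_far (S : Seed G₀ d z T) :
    ∃ w ∈ conjugatesOf d, Commute w z ∧ ¬ Commute d w ∧
      72 ≤ (common (conjugatesOf d) d w ∩ {e | Commute e z}).ncard := by
  classical
  have := Fintype.ofFinite Γ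
  obtain ⟨x0, hx0, hx0z⟩ := S.triple
  obtain ⟨e', -⟩ | ⟨e', -⟩ | ⟨-, a, b, c, hT, hx0e⟩ := isProd_cases (by norm_num) le_rfl hx0
  · omega
  · omega
  obtain ⟨ha, hb, hc, n1, n2, n3, c1, c2, c3⟩ := hT
  have hS := S.setup
  set Dz : Set Γ := {e | e ∈ conjugatesOf d ∧ Commute e z} with hDz
  set A : Set ↥(Yd G₀ d) := adj T a ∩ adj T b ∩ adj T c with hA
  have hA180 : A.ncard = 180 :=
    FischerM23.triple_ncard hS ha ⟨hb, n1.symm, c1⟩ ⟨hc, n2.symm, c2⟩ n3 c3
  have hAz : ∀ σ ∈ A, σ ∈ T ∧ Commute σ x0 := fun σ hσ =>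
    ⟨hσ.1.1.1, hx0e ▸ (hσ.1.1.2.2.symm.mul_right hσ.1.2.2.2.symm).mul_right hσ.2.2.2.symm⟩
  have hdz : Commute d z := hx0z ▸ comm_d x0
  have hdD : d ∈ Dz := ⟨S.self_mem, hdz⟩
  set F : Set Γ := Dz \ insert d (adj (conjugatesOf d) d) with hF
  have hF320 : F.ncard ≤ 320 := by
    have h1 : insert d (adj (conjugatesOf d) d ∩ Dz) ⊆ Dz := Set.insert_subset hdD Set.inter_subset_right
    have h2 : F = Dz \ insert d (adj (conjugatesOf d) d ∩ Dz) := by
      rw [hF]; ext x; simp only [Set.mem_sdiff, Set.mem_insert_iff, Set.mem_inter_iff]; tauto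
    rw [h2, Set.ncard_sdiff h1, Set.ncard_insert_of_notMem (fun h => h.1.2.1 rfl), S.near_card]
    have := S.cent_le
    rw [← hDz] at this
    omega
  have hrow : ∀ σ ∈ A, 128 ≤ (F.toFinset.filter fun w => w ∈ adj (conjugatesOf d) (d * (σ : Γ))).card := by
    intro σ hσ
    obtain ⟨hσT, hσz⟩ := hAz σ hσ
    set p := d * (σ : Γ) with hp
    have hpz : Commute p z := hx0z ▸ (comm_d x0).mul_left (congrArg Subtype.val hσz)
    have hsub : adj (conjugatesOf d) p ∩ Dz ⊆ ↑(F.toFinset.filter fun w => w ∈ adj (conjugatesOf d) p) ∪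
        insert d ((fun τ : ↥(Yd G₀ d) => d * (τ : Γ)) '' ({a, b, c} ∪ (adj T σ ∩ adj T a ∩ adj T b ∩ adj T c))) := by
      rintro w ⟨hwp, hwD⟩
      by_cases hwF : w ∈ F
      · left; simp [hwF, hwp]
      right
      by_cases hwd : w = d
      · exact Or.inl hwd
      right
      have hw : w ∈ adj (conjugatesOf d) d ∩ Dz := ⟨by
        by_contra hn
        exact hwF ⟨hwD, fun h => h.elim hwd hn⟩, hwD⟩
      rw [hDz, S.near_cent hx0z] at hw
      obtain ⟨τ, ⟨hτ, hτz⟩, rfl⟩ := hw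
      refine ⟨τ, ?_, rfl⟩
      rw [hx0e] at hτz
      obtain ⟨ea, eb, ec⟩ := (commute_mul_three_iff hS.cls.1 ha hb hc hτ n1 n2 n3 c1 c2 c3).1 hτz
      by_cases e1 : τ = a
      · exact Or.inl (Or.inl e1)
      by_cases e2 : τ = b
      · exact Or.inl (Or.inr (Or.inl e2))
      by_cases e3 : τ = c
      · exact Or.inl (Or.inr (Or.inr e3))
      exact Or.inr ⟨⟨⟨⟨hτ, fun e => hwp.2.1 (e ▸ rfl), (S.shift_comm σ τ).1 hwp.2.2⟩, hτ, e1, ea.symm⟩,
        hτ, e2, eb.symm⟩, hτ, e3, ec.symm⟩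
    have h1 := Set.ncard_le_ncard hsub (Set.toFinite _)
    rw [S.near_card_all (S.shift σ hσT) hpz] at h1
    have h2 := Set.ncard_union_le (↑(F.toFinset.filter fun w => w ∈ adj (conjugatesOf d) p) : Set Γ)
      (insert d ((fun τ : ↥(Yd G₀ d) => d * (τ : Γ)) '' ({a, b, c} ∪ (adj T σ ∩ adj T a ∩ adj T b ∩ adj T c))))
    have h3 := Set.ncard_insert_le d
      ((fun τ : ↥(Yd G₀ d) => d * (τ : Γ)) '' ({a, b, c} ∪ (adj T σ ∩ adj T a ∩ adj T b ∩ adj T c)))
    have h4 := Set.ncard_image_le (f := fun τ : ↥(Yd G₀ d) => d * (τ : Γ))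
      (s := {a, b, c} ∪ (adj T σ ∩ adj T a ∩ adj T b ∩ adj T c))
    have h5 := Set.ncard_union_le ({a, b, c} : Set ↥(Yd G₀ d)) (adj T σ ∩ adj T a ∩ adj T b ∩ adj T c)
    have h6 : ({a, b, c} : Set ↥(Yd G₀ d)).ncard ≤ 3 := by
      refine (Set.ncard_insert_le _ _).trans ?_
      have := Set.ncard_insert_le b ({c} : Set ↥(Yd G₀ d))
      rw [Set.ncard_singleton] at this
      omega
    have h7 : (adj T σ ∩ adj T a ∩ adj T b ∩ adj T c).ncard = 51 := by
      obtain ⟨⟨hσa, hσb⟩, hσc⟩ := hσ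
      exact FischerM23.quad_ncard hS hσT (adj_symm ha hσa) ⟨adj_symm hb hσb, hb, n1.symm, c1⟩
        ⟨adj_symm hc hσc, hc, n2.symm, c2⟩ n3 c3
    rw [Set.ncard_coe_finset] at h2
    omega
  obtain ⟨w, hw, h72⟩ : ∃ w ∈ F.toFinset,
      72 ≤ (A.toFinset.filter fun σ : ↥(Yd G₀ d) => w ∈ adj (conjugatesOf d) (d * (σ : Γ))).card := by
    by_contra hall
    push Not at hall
    have h : ∑ σ ∈ A.toFinset, (F.toFinset.filter fun w => w ∈ adj (conjugatesOf d) (d * (σ : Γ))).card =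
        ∑ w ∈ F.toFinset, (A.toFinset.filter fun σ : ↥(Yd G₀ d) => w ∈ adj (conjugatesOf d) (d * (σ : Γ))).card := by
      simp only [Finset.card_filter]
      exact Finset.sum_comm
    have h1 := Finset.sum_le_card_nsmul F.toFinset
      (fun w => (A.toFinset.filter fun σ : ↥(Yd G₀ d) => w ∈ adj (conjugatesOf d) (d * (σ : Γ))).card) 71
      fun w hw => by have := hall w hw; omega
    have h2 := Finset.card_nsmul_le_sum A.toFinset
      (fun σ : ↥(Yd G₀ d) => (F.toFinset.filter fun w => w ∈ adj (conjugatesOf d) (d * (σ : Γ))).card) 128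
      fun σ hσ => hrow σ (Set.mem_toFinset.1 hσ)
    rw [← Set.ncard_eq_toFinset_card', smul_eq_mul] at h1 h2
    rw [hA180] at h2
    omega
  rw [Set.mem_toFinset] at hw
  refine ⟨w, hw.1.1, hw.1.2, fun h => hw.2 ?_, h72.trans ?_⟩
  · by_cases e : w = d
    · exact Or.inl e
    · exact Or.inr ⟨hw.1.1, e, h⟩
  · rw [← Set.ncard_coe_finset, ← Set.ncard_image_of_injective _
      (f := fun σ : ↥(Yd G₀ d) => d * (σ : Γ)) fun u v e => Subtype.ext (mul_left_cancel e)]
    refine Set.ncard_le_ncard ?_ (Set.toFinite _)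
    rintro _ ⟨σ, hσ, rfl⟩
    simp only [Finset.coe_filter, Set.mem_toFinset, Set.mem_ofPred_eq] at hσ
    obtain ⟨hσT, hσz⟩ := hAz σ hσ.1
    exact ⟨⟨S.adj_eq ▸ ⟨σ, hσT, rfl⟩, adj_symm (S.shift σ hσT) hσ.2⟩,
      hx0z ▸ (comm_d x0).mul_left (congrArg Subtype.val hσz)⟩

set_option maxHeartbeats 1000000 in
/-- The common neighbours of this pair are not connected, so they are at least 2160. -/
theorem far_pair (S : Seed G₀ d z T) :
    ∃ w ∈ conjugatesOf d, ¬ Commute d w ∧ 1621 ≤ (common (conjugatesOf d) d w).ncard := by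
  obtain ⟨w, hw, hwz, hdw, h72⟩ := S.exists_far
  refine ⟨w, hw, hdw, ?_⟩
  set M := common (conjugatesOf d) d w with hM
  obtain ⟨v, hvM, hvz : Commute v z⟩ : (M ∩ {e | Commute e z}).Nonempty :=
    Set.nonempty_of_ncard_ne_zero (by omega)
  have L := S.localCls
  obtain ⟨Q, c, ψ, hψ, hcard⟩ := L.comp_chart S.self_mem hw hdw hvM
  by_cases hall : M ⊆ FischerMain.comp M v
  · exfalso
    obtain ⟨x0, hx0, hx0z⟩ := S.triple
    obtain ⟨e', -⟩ | ⟨e', -⟩ | ⟨-, a, b, c', hT, hx0e⟩ := isProd_cases (by norm_num) le_rfl hx0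
    · omega
    · omega
    obtain ⟨ha, hb, hc, n1, n2, n3, c1, c2, c3⟩ := id hT
    obtain ⟨k, hk, hkv⟩ := S.mem_cent_iff.1 ⟨hvM.1.1, hvz⟩
    set u : Fin 4 → Γ := fun i => k * (d * ((![1, a, b, c'] i : ↥(Yd G₀ d)) : Γ)) * k⁻¹ with hu
    have hmemD : ∀ i, u i ∈ conjugatesOf d := fun i => by
      fin_cases i
      · simpa [hu] using S.conj_closed k d S.self_mem
      · exact S.conj_closed k _ (S.shift a ha)
      · exact S.conj_closed k _ (S.shift b hb)
      · exact S.conj_closed k _ (S.shift c' hc)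
    have hinj : ∀ i j, i ≠ j → (![1, a, b, c'] i : ↥(Yd G₀ d)) ≠ ![1, a, b, c'] j := by
      have h1 : ∀ {x}, x ∈ T → x ≠ 1 := fun hx =>
        FischerM23.prod_ne_one S.setup le_rfl (by norm_num) (isProd_one hx)
      intro i j hij
      fin_cases i <;> fin_cases j <;>
        first
        | exact absurd rfl hij
        | simp [n1, n2, n3, n1.symm, n2.symm, n3.symm, h1 ha, h1 hb, h1 hc, (h1 ha).symm, (h1 hb).symm, (h1 hc).symm]
    have hcomm : ∀ i j, Commute (![1, a, b, c'] i : ↥(Yd G₀ d)) (![1, a, b, c'] j) := by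
      intro i j
      fin_cases i <;> fin_cases j <;>
        simp [c1, c2, c3, c1.symm, c2.symm, c3.symm, Commute.one_left, Commute.one_right, Commute.refl]
    -- a member near the first one commuting with z commutes with the others
    have hmate : ∀ y ∈ conjugatesOf d, Commute y z → Commute v y → ∀ i, Commute y (u i) := by
      intro y hy hyz hvy i
      have hy' : k⁻¹ * y * k ∈ conjugatesOf d := by
        have h1 := S.conj_closed k⁻¹ y hy
        rwa [inv_inv] at h1
      have hy'z : Commute (k⁻¹ * y * k) z := (hk.inv_left.mul_left hyz).mul_left hk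
      have hy'd : Commute d (k⁻¹ * y * k) := by
        have h1 := hvy.map (MulAut.conj k⁻¹).toMonoidHom
        simpa [← hkv, mul_assoc] using h1
      suffices h2 : Commute (k⁻¹ * y * k) (d * ((![1, a, b, c'] i : ↥(Yd G₀ d)) : Γ)) by
        have h3 := h2.map (MulAut.conj k).toMonoidHom
        simp only [MulEquiv.coe_toMonoidHom, MulAut.conj_apply] at h3
        rwa [show k * (k⁻¹ * y * k) * k⁻¹ = y by group] at h3
      by_cases hed : k⁻¹ * y * k = d
      · rw [hed]; exact (Commute.refl d).mul_right (comm_d _)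
      have hn : k⁻¹ * y * k ∈ adj (conjugatesOf d) d ∩ {e | e ∈ conjugatesOf d ∧ Commute e z} :=
        ⟨⟨hy', hed, hy'd⟩, hy', hy'z⟩
      rw [S.near_cent hx0z] at hn
      obtain ⟨τ, ⟨hτ, hτz⟩, he⟩ := hn
      rw [← he, S.shift_comm]
      rw [hx0e] at hτz
      obtain ⟨ea, eb, ec⟩ := (commute_mul_three_iff S.setup.cls.1 ha hb hc hτ n1 n2 n3 c1 c2 c3).1 hτz
      fin_cases i <;> simp [ea, eb, ec, Commute.one_right]
    have hdz : Commute d z := hx0z ▸ comm_d x0
    have hum : ∀ i, u i ∈ FischerMain.comp M v := fun i => by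
      have hd' := hmate d S.self_mem hdz hvM.1.2.2.symm i
      have hw' := hmate w hw hwz hvM.2.2.2.symm i
      refine hall ⟨⟨hmemD i, fun e => hdw ?_, hd'⟩, ⟨hmemD i, fun e => hdw ?_, hw'⟩⟩
      · exact (e ▸ hw').symm
      · exact e ▸ hd'
    have hprod : u 0 * u 1 * u 2 * u 3 = z := by
      have h1 : d * ((1 : ↥(Yd G₀ d)) : Γ) * (d * (a : Γ)) * (d * (b : Γ)) * (d * (c' : Γ)) = z := by
        rw [Subgroup.coe_one, mul_one, S.d_mul_cancel, ← hx0z, hx0e, Subgroup.coe_mul, Subgroup.coe_mul,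
          ← mul_assoc (a : Γ), ← (comm_d a).eq, mul_assoc d]
        rw [← Subgroup.coe_mul, (comm_d (a * b)).eq, mul_assoc, S.d_mul_cancel]
      have h2 : u 0 * u 1 * u 2 * u 3 =
          k * (d * ((1 : ↥(Yd G₀ d)) : Γ) * (d * (a : Γ)) * (d * (b : Γ)) * (d * (c' : Γ))) * k⁻¹ := by
        simp only [hu, Matrix.cons_val_zero, Matrix.cons_val_one, Matrix.cons_val]
        group
      rw [h2, h1, hk.eq, mul_inv_cancel_right]
    have h52 := chart_cent_le hψ (fun x hx => S.class_sq hx.1.1.1) u hum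
      (fun i j hij e => hinj i j hij (Subtype.ext (mul_left_cancel (mul_left_cancel (mul_right_cancel e)))))
      fun i j => ((S.shift_comm _ _).2 (hcomm i j)).map (MulAut.conj k).toMonoidHom
    rw [hprod] at h52
    have : M ∩ {e | Commute e z} ⊆ {x | x ∈ FischerMain.comp M v ∧ Commute z x} := fun x hx =>
      ⟨hall hx.1, (show Commute x z from hx.2).symm⟩
    have := Set.ncard_le_ncard this (Set.toFinite _)
    have h53 : {x | x ∈ FischerMain.comp M v ∧ Commute z x}.ncard ≤ 52 := h52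
    omega
  · rw [Set.not_subset] at hall
    obtain ⟨v', hv'M, hv'⟩ := hall
    obtain ⟨-, -, -, -, hcard'⟩ := L.comp_chart S.self_mem hw hdw hv'M
    have h := Set.ncard_le_ncard (Set.union_subset (FischerMain.comp_subset (v := v))
      (FischerMain.comp_subset (S := M) (v := v'))) (Set.toFinite _)
    rw [Set.ncard_union_eq (FischerMain.comp_disjoint hv' hv'M) (Set.toFinite _) (Set.toFinite _), hcard, hcard'] at h
    omega

/-- Members at distance two have more than 1620 common neighbours. -/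
theorem wide (S : Seed G₀ d z T) : Wide (conjugatesOf d) := by
  intro a ha e he hn hne
  obtain ⟨w, hw, hdw, hbig⟩ := S.far_pair
  obtain ⟨g, rfl, rfl⟩ := S.far_trans S.self_mem hw hdw (Set.nonempty_of_ncard_ne_zero (by omega)) ha he hn hne
  unfold common at hbig ⊢
  rwa [S.adj_image, S.adj_image, ← Set.image_inter (MulAut.conj g).injective,
    Set.ncard_image_of_injective _ (MulAut.conj g).injective]

end Seed

end Cfsg.Agent.TransCentFi24
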