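/-
The component of the outer involution generates a group of type M(24) (helper79).

Main results (namespace `Cfsg.Agent.TransCentFi24`):
* `compSet`, `Seed.central`, `Seed.setup24`.
-/
import Cfsg.Agent.Lib.TransCentFi24.Component
import Cfsg.Agent.Lib.TransCentFi24.Wide
import Cfsg.Agent.Lib.FischerM24.Connected
import Cfsg.Agent.Lib.FischerMain.MChain.Type24

set_option autoImplicit false
set_option linter.unusedSectionVars false

namespace Cfsg.Agent.TransCentFi24

open Cfsg.Agent.ThreeTrans Relation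
open Cfsg.Agent.FischerM22 (IsProd isProd_one adj_symm)
open Cfsg.Agent.FischerM23 (QL QSet Reach reach_symm)

variable {Γ : Type*} [Group Γ] [Finite Γ] {G : Type*} [Group G] [Finite G] {E : Set G}

/-- The component of `d` as a subset of the group it generates. -/
def compSet (D : Set Γ) (a : Γ) : Set ↥(compGroup D a) := {x | (x : Γ) ∈ comp D a}

theorem adj_compSet {D : Set Γ} {a : Γ} {x : ↥(compGroup D a)} (hx : x ∈ compSet D a) :
    Subtype.val '' adj (compSet D a) x = adj D (x : Γ) := by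
  ext y
  constructor
  · rintro ⟨z, ⟨hz, hne, hc⟩, rfl⟩
    exact ⟨hz.1, fun h => hne (Subtype.ext h), congrArg Subtype.val hc⟩
  · intro hy
    have hm := WideCls.adj_sub_comp hx hy
    exact ⟨⟨y, WideCls.mem_compGroup hm⟩,
      ⟨hm, fun h => hy.2.1 (congrArg Subtype.val h), Subtype.ext hy.2.2⟩, rfl⟩

variable {D : Set Γ}

/-- The local groups are the centralisers. -/
theorem loc_compSet (S : WideCls D E) {a : Γ} {x : ↥(compGroup D a)} (hx : x ∈ compSet D a) :
    (Loc (compSet D a) x).map (compGroup D a).subtype = Subgroup.centralizer ({(x : Γ)} : Set Γ) ∧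
      Subgroup.centralizer ({x} : Set ↥(compGroup D a)) = Loc (compSet D a) x := by
  have e : (Loc (compSet D a) x).map (compGroup D a).subtype = Subgroup.centralizer ({(x : Γ)} : Set Γ) := by
    rw [← S.locCent _ hx.1]
    show (Subgroup.closure _).map _ = Subgroup.closure _
    rw [MonoidHom.map_closure]
    exact congrArg Subgroup.closure (adj_compSet hx)
  refine ⟨e, le_antisymm (fun y hy => ?_) ((Subgroup.closure_le _).2 fun y hy =>
    Subgroup.mem_centralizer_singleton_iff.2 hy.2.2.symm.eq)⟩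
  have h1 : (y : Γ) ∈ Subgroup.centralizer ({(x : Γ)} : Set Γ) :=
    Subgroup.mem_centralizer_singleton_iff.2 (congrArg Subtype.val (Subgroup.mem_centralizer_singleton_iff.1 hy))
  rw [← e] at h1
  obtain ⟨z, hz, ez⟩ := h1
  rwa [show y = z from Subtype.ext ez.symm]

/-- The component is a class of 3-transpositions of its group. -/
theorem compSet_cls (S : WideCls D E) {a : Γ} (ha : a ∈ D) :
    Cfsg.IsThreeTranspositionClass (compSet D a) := by
  refine ⟨⟨fun x hx => (Subgroup.orderOf_coe x).symm.trans (S.order _ hx.1), fun x hx y hy => ?_⟩,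
    ⟨⟨a, WideCls.mem_compGroup (WideCls.self_mem_comp a ha)⟩, WideCls.self_mem_comp a ha, ?_⟩,
    Subgroup.closure_closure_coe_preimage⟩
  · refine (S.reach_product hx.1 ((reach_symm hx.2).trans hy.2)).imp (fun h => ?_) (fun h => ?_) <;>
      exact Subtype.ext (by rw [Subgroup.coe_pow, Subgroup.coe_mul]; exact h)
  · ext y
    constructor
    · intro hy
      obtain ⟨h, hh, e⟩ := S.comp_trans ha hy
      exact isConj_iff.2 ⟨⟨h, hh⟩, Subtype.ext e⟩
    · intro hy
      obtain ⟨g, e⟩ := isConj_iff.1 (show IsConj _ y from hy)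
      show (y : Γ) ∈ comp D a
      rw [← e]
      exact S.compGroup_conj g.2 _ (WideCls.self_mem_comp a ha)

namespace Seed

variable {G₀ : Subgroup Γ} {d z : Γ} {T : Set ↥(Yd G₀ d)}

theorem wideCls (S : Seed G₀ d z T) : WideCls (conjugatesOf d) T := ⟨S.localCls, S.wide⟩

open Classical in
/-- The centraliser of `d` onto its part inside. -/
noncomputable def toY (S : Seed G₀ d z T) : ↥(Subgroup.centralizer ({d} : Set Γ)) →* ↥(Yd G₀ d) :=
  MonoidHom.mk' (fun x => if h : (x : Γ) ∈ G₀ then ⟨x, h, x.2⟩ else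
    ⟨d * x, (Subgroup.mul_mem_iff_of_index_two S.idx).2 (iff_of_false S.out h),
      mul_mem (Subgroup.mem_centralizer_singleton_iff.2 rfl) x.2⟩) fun x y => by
    have hx : d * (x : Γ) = x * d := (Subgroup.mem_centralizer_singleton_iff.1 x.2).symm
    have hiff := Subgroup.mul_mem_iff_of_index_two (a := (x : Γ)) (b := (y : Γ)) S.idx
    refine Subtype.ext ?_
    simp only [Subgroup.coe_mul]
    by_cases h1 : (x : Γ) ∈ G₀ <;> by_cases h2 : (y : Γ) ∈ G₀
    · rw [dif_pos h1, dif_pos h2, dif_pos (hiff.2 (iff_of_true h1 h2))]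
    · rw [dif_pos h1, dif_neg h2, dif_neg (fun h => h2 ((hiff.1 h).1 h1))]
      show d * ((x : Γ) * y) = (x : Γ) * (d * y)
      rw [← mul_assoc, hx, mul_assoc]
    · rw [dif_neg h1, dif_pos h2, dif_neg (fun h => h1 ((hiff.1 h).2 h2))]
      exact (mul_assoc _ _ _).symm
    · rw [dif_neg h1, dif_neg h2, dif_pos (hiff.2 (iff_of_false h1 h2))]
      show (x : Γ) * y = d * (x : Γ) * (d * y)
      rw [hx, mul_assoc, S.d_mul_cancel]

theorem toY_inner (S : Seed G₀ d z T) {x : ↥(Subgroup.centralizer ({d} : Set Γ))} (h : (x : Γ) ∈ G₀) :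
    ((S.toY x : ↥(Yd G₀ d)) : Γ) = x := by
  unfold toY
  rw [MonoidHom.mk'_apply, dif_pos h]

theorem toY_outer (S : Seed G₀ d z T) {x : ↥(Subgroup.centralizer ({d} : Set Γ))} (h : (x : Γ) ∉ G₀) :
    ((S.toY x : ↥(Yd G₀ d)) : Γ) = d * x := by
  unfold toY
  rw [MonoidHom.mk'_apply, dif_neg h]

/-- The component is a class whose members see groups of type M(23). -/
theorem central (S : Seed G₀ d z T) :
    ∃ x ∈ compSet (conjugatesOf d) d, FischerMain.Central (compSet (conjugatesOf d) d) ∧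
      Cfsg.IsOfTypeM23 (QL (compSet (conjugatesOf d) d) x) (QSet (compSet (conjugatesOf d) d) x) := by
  have W0 := S.wideCls
  set H := compGroup (conjugatesOf d) d with hH
  set W := compSet (conjugatesOf d) d with hW
  have hdD : d ∈ conjugatesOf d := S.self_mem
  have hdW : d ∈ comp (conjugatesOf d) d := WideCls.self_mem_comp d hdD
  set d' : ↥H := ⟨d, WideCls.mem_compGroup hdW⟩ with hd'
  have hd'W : d' ∈ W := hdW
  have hcls := compSet_cls W0 hdD
  have hG : ∀ y : ↥(Yd G₀ d), (∀ g, Commute g y) → y = 1 := fun y h => by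
    rw [← Subgroup.mem_bot, ← S.setup.type23.1]
    exact Subgroup.mem_center_iff.2 fun g => (h g).eq
  -- the map of the local group at `d`
  set L := Loc W d' with hL
  have hLmap : L.map H.subtype = Subgroup.centralizer ({d} : Set Γ) := (loc_compSet W0 hd'W).1
  have hLC : ∀ y : ↥L, ((y : ↥H) : Γ) ∈ Subgroup.centralizer ({d} : Set Γ) := fun y => hLmap ▸ ⟨y, y.2, rfl⟩
  let ρ : ↥L →* ↥(Yd G₀ d) := S.toY.comp ((H.subtype.comp L.subtype).codRestrict _ hLC)
  have hρadj : ∀ y : ↥L, ∀ τ : ↥(Yd G₀ d), τ ∈ T → ((y : ↥H) : Γ) = d * τ → ρ y = τ := fun y τ hτ e => by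
    refine Subtype.ext ((S.toY_outer (fun h => S.class_out (S.shift τ hτ) (e ▸ h))).trans ?_)
    show d * ((y : ↥H) : Γ) = _
    rw [e, S.d_mul_cancel]
  have hρsurj : Function.Surjective ρ := fun g => by
    have hc : (g : Γ) ∈ L.map H.subtype := by rw [hLmap]; exact g.2.2
    obtain ⟨y, hy, e⟩ := hc
    have e' : ((y : ↥H) : Γ) = g := e
    refine ⟨⟨y, hy⟩, Subtype.ext ((S.toY_inner ?_).trans e')⟩
    show (y : Γ) ∈ G₀
    rw [e']
    exact g.2.1
  have hker0 : ∀ y : ↥L, ρ y = 1 → ((y : ↥H) : Γ) = 1 ∨ ((y : ↥H) : Γ) = d := fun y hy => by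
    by_cases h : ((y : ↥H) : Γ) ∈ G₀
    · exact Or.inl ((S.toY_inner (x := ⟨_, hLC y⟩) h).symm.trans (congrArg Subtype.val hy))
    · refine Or.inr ?_
      have h1 : d * ((y : ↥H) : Γ) = 1 := (S.toY_outer (x := ⟨_, hLC y⟩) h).symm.trans (congrArg Subtype.val hy)
      rw [← S.d_mul_cancel ((y : ↥H) : Γ), h1, mul_one]
  have hker : ρ.ker = Subgroup.center ↥L := by
    refine le_antisymm (fun y hy => ?_) fun y hy => ?_
    · rcases hker0 y hy with h | h
      · rw [show y = 1 from Subtype.ext (Subtype.ext h)]; exact one_mem _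
      · refine Subgroup.mem_center_iff.2 fun u => Subtype.ext (Subtype.ext ?_)
        show ((u : ↥H) : Γ) * ((y : ↥H) : Γ) = ((y : ↥H) : Γ) * ((u : ↥H) : Γ)
        rw [h]
        exact Subgroup.mem_centralizer_singleton_iff.1 (hLC u)
    · refine hG _ fun g => ?_
      obtain ⟨u, rfl⟩ := hρsurj g
      exact (show Commute u y from Subgroup.mem_center_iff.1 hy u).map ρ
  have h1 := adj_compSet hd'W
  have hmem : ∀ u : ↥L, u ∈ locSet W d' → ∃ τ ∈ T, ((u : ↥H) : Γ) = d * τ := fun u hu => by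
    have h2 : ((u : ↥H) : Γ) ∈ adj (conjugatesOf d) d := h1 ▸ ⟨_, hu, rfl⟩
    rw [S.adj_eq] at h2
    obtain ⟨τ, hτ, e⟩ := h2
    exact ⟨τ, hτ, e.symm⟩
  have himg : ρ '' locSet W d' = T := by
    ext τ
    constructor
    · rintro ⟨u, hu, rfl⟩
      obtain ⟨σ, hσ, e⟩ := hmem u hu
      rwa [hρadj u σ hσ e]
    · intro hτ
      have h2 : d * (τ : Γ) ∈ Subtype.val '' adj W d' := by rw [h1, S.adj_eq]; exact ⟨τ, hτ, rfl⟩
      obtain ⟨u, hu, e⟩ := h2
      exact ⟨⟨u, Subgroup.subset_closure hu⟩, hu, hρadj _ τ hτ e⟩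
  have hinj : Set.InjOn ρ (locSet W d') := fun u hu v hv e => by
    obtain ⟨σ, hσ, eu⟩ := hmem u hu
    obtain ⟨τ, hτ, ev⟩ := hmem v hv
    rw [hρadj u σ hσ eu, hρadj v τ hτ ev] at e
    exact Subtype.ext (Subtype.ext (by rw [eu, ev, e]))
  -- the local quotient
  obtain ⟨e⟩ : Nonempty (QL W d' ≃* ↥(Yd G₀ d)) :=
    ⟨(QuotientGroup.quotientMulEquivOfEq hker.symm).trans (QuotientGroup.quotientKerEquivOfSurjective ρ hρsurj)⟩
  have hQinj : Set.InjOn (toQ ↥L) (locSet W d') := fun u hu v hv e => by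
    refine hinj hu hv ?_
    have h1 : u⁻¹ * v ∈ ρ.ker := hker ▸ QuotientGroup.eq.1 e
    rw [MonoidHom.mem_ker, map_mul, map_inv] at h1
    exact inv_mul_eq_one.1 h1
  have := FischerM23.isSimpleGroup S.setup
  have hsimpQ : IsSimpleGroup (QL W d') := MulEquiv.isSimpleGroup e
  have hcores : CentralCores ↥H := FischerM23.centralCores_of_local_simple hcls hd'W hsimpQ
  have hne : (adj W d').Nonempty := by
    have h1 : (Subtype.val '' adj W d').Nonempty := by
      rw [adj_compSet hd'W]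
      exact Set.nonempty_of_ncard_ne_zero (by rw [W0.adj_ncard hdD]; norm_num)
    exact h1.of_image
  have hlcls := loc_class hcls hcores hd'W hne
  have hloc : CentralCores ↥L := by
    have hn := exists_noncommuting_of_simple_quotient hlcls.2.2 hsimpQ
    exact ⟨pCore_two_le_center_of_simple_quotient hlcls.1 hlcls.2.2 hsimpQ hn,
      FischerM23.pCore_three_le_center_of_simple_quotient hlcls.1 hsimpQ hn⟩
  have hcen : Subgroup.center ↥H = ⊥ := by
    rw [eq_bot_iff]
    intro y hy
    rw [Subgroup.mem_bot]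
    have hyL : y ∈ L := by
      rw [hL, ← (loc_compSet W0 hd'W).2]
      exact Subgroup.mem_centralizer_singleton_iff.2 (Subgroup.mem_center_iff.1 hy d').symm
    have hzc : (⟨y, hyL⟩ : ↥L) ∈ ρ.ker := hker ▸ Subgroup.mem_center_iff.2 fun u =>
      Subtype.ext (Subgroup.mem_center_iff.1 hy (u : ↥H))
    rcases hker0 _ hzc with h | h
    · exact Subtype.ext h
    · exfalso
      have hzd : (y : Γ) = d := h
      obtain ⟨q, hq⟩ : (adj (conjugatesOf d) d).Nonempty :=
        Set.nonempty_of_ncard_ne_zero (by rw [W0.adj_ncard hdD]; norm_num)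
      have hdq := adj_symm hdD hq
      obtain ⟨x, hx, hxd⟩ : ∃ x ∈ adj (conjugatesOf d) q, ¬ Commute d x := by
        by_contra hno
        have hsub : adj (conjugatesOf d) q ⊆ insert d (adj (conjugatesOf d) q ∩ adj (conjugatesOf d) d) := by
          intro x hx
          by_cases e1 : x = d
          · exact Or.inl e1
          · exact Or.inr ⟨hx, hx.1, e1, by_contra fun h' => hno ⟨x, hx, h'⟩⟩
        have h3 := (Set.ncard_le_ncard hsub (Set.toFinite _)).trans (Set.ncard_insert_le _ _)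
        rw [W0.adj_ncard hq.1, W0.common_ncard hq.1 hdq] at h3
        omega
      have hxc := WideCls.adj_sub_comp (WideCls.adj_sub_comp hdW hq) hx
      have := Subgroup.mem_center_iff.1 hy ⟨x, WideCls.mem_compGroup hxc⟩
      exact hxd (hzd ▸ (congrArg Subtype.val this).symm)
  have hconn : ConnectedComm W := by
    have key : ∀ {u v : Γ}, Reach (conjugatesOf d) u v → u ∈ comp (conjugatesOf d) d →
        ∃ (hu : u ∈ H) (hv : v ∈ H), ReflTransGen (fun p q : ↥H => p ∈ W ∧ q ∈ W ∧ Commute p q) ⟨u, hu⟩ ⟨v, hv⟩ := by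
      intro u v huv hu
      induction huv with
      | refl => exact ⟨WideCls.mem_compGroup hu, WideCls.mem_compGroup hu, ReflTransGen.refl⟩
      | @tail p q hup hpq ih =>
        obtain ⟨h1, h2, h3⟩ := ih
        have hp : p ∈ comp (conjugatesOf d) d := ⟨hpq.1, hu.2.trans hup⟩
        have hq : q ∈ comp (conjugatesOf d) d := WideCls.comp_closed hp hpq.2.1 hpq.2.2
        exact ⟨h1, WideCls.mem_compGroup hq, h3.tail ⟨hp, hq, Subtype.ext hpq.2.2⟩⟩
    intro x hx y hy
    obtain ⟨_, _, hr⟩ := key ((reach_symm hx.2).trans hy.2) hx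
    exact hr
  refine ⟨d', hd'W, ⟨⟨hcls, trivialRadical_of_center (group_of_class hcls) hcores hcen, ?_⟩, hconn, ?_, ?_⟩, ?_⟩
  · obtain ⟨q, hq⟩ := hne
    exact ⟨d', hd'W, q, hq.1, hq.2.1.symm⟩
  · exact fun x hx => adj_nonempty_all hcls hd'W hx hne
  · exact fun x hx => centralCores_loc_transport hcls hd'W hx hloc
  · have hconjL := (group_of_class hlcls).2.1
    obtain ⟨x, y, h⟩ := FischerM24.data_of_type23 S.setup.type23
    rw [← himg] at h
    obtain ⟨⟨x, hx, rfl⟩, ⟨y, hy, rfl⟩, -⟩ := id h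
    have h2 := (FischerM24.data23_image hconjL ρ hinj hx hy).1 h
    have h3 := (FischerM24.data23_image hconjL (toQ ↥L) hQinj hx hy).2 h2
    exact FischerM24.type23_of_data (FischerM24.center_eq_bot_map e.symm S.setup.type23.1) h3

/-- The component generates a group of type M(24). -/
theorem setup24 (S : Seed G₀ d z T) : FischerM24.Fi24Setup (compSet (conjugatesOf d) d) := by
  obtain ⟨x, hx, hC, h23⟩ := S.central
  exact ⟨hC.cls, centralCores_of_trivialRadical hC.rad, hC.conn, FischerMain.type24_of_local hC hx h23⟩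

end Seed

end Cfsg.Agent.TransCentFi24
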