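/-
The component is the whole class: the centralisers of the products of two and of four commuting members lie in its
group, and an element outside would commute with a product of three (helper79).

Main results (namespace `Cfsg.Agent.TransCentFi24`):
* `Seed.pair_le`, `Seed.quad_le`, `Seed.comp_eq`;
* `type24_map`, `Seed.main` : the group is of type M(24).
-/
import Cfsg.Agent.Lib.TransCentFi24.Group
import Cfsg.Agent.Lib.FischerM24.Involutions
import Cfsg.Agent.Lib.FischerM24.Four.Count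
import Cfsg.Agent.Lib.TransCentFi23.Descent

set_option autoImplicit false
set_option linter.unusedSectionVars false

namespace Cfsg.Agent.TransCentFi24

open Cfsg.Agent.ThreeTrans Relation
open Cfsg.Agent.FischerM22 (IsProd isProd_one isProd_two isProd_three isProd_cases IsTriple)
open Cfsg.Agent.FischerM24 (isProd_cases4)

/-- Type M(24) is invariant under isomorphism. -/
theorem type24_map {X Y : Type*} [Group X] [Group Y] (f : X ≃* Y) {E : Set X}
    (hconj : ∀ g : X, ∀ x ∈ E, g * x * g⁻¹ ∈ E) (h : Cfsg.IsOfTypeM24 X E) :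
    Cfsg.IsOfTypeM24 Y (f '' E) := by
  obtain ⟨hZ, d, hd, c, hc, hdc, h23, N, hN, ⟨eN⟩, ⟨e3⟩⟩ := h
  change Cfsg.IsOfTypeM23 (FischerM23.QL E d) (FischerM23.QSet E d) at h23
  have hinj : Set.InjOn f.toMonoidHom E := f.injective.injOn
  have hadj := FischerM23.adj_image hconj f.toMonoidHom hinj hd
  obtain ⟨e1, he1⟩ := FischerM24.exists_quot_equiv hconj f.toMonoidHom hinj (S := adj E d) (fun x hx => hx.1) hadj
  obtain ⟨e2, -⟩ := FischerM24.exists_quot_equiv hconj f.toMonoidHom hinj (S := common E d c) (fun x hx => hx.1.1)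
    (FischerM23.common_image hconj f.toMonoidHom hinj hd hc)
  have e1' : e1 '' FischerM23.QSet E d = FischerM23.QSet (f.toMonoidHom '' E) (f.toMonoidHom d) := by
    ext q
    constructor
    · rintro ⟨-, ⟨x, hx, rfl⟩, rfl⟩
      have hm : f.toMonoidHom x ∈ adj (f.toMonoidHom '' E) (f.toMonoidHom d) := hadj ▸ ⟨(x : X), hx, rfl⟩
      exact ⟨⟨f.toMonoidHom x, Subgroup.subset_closure hm⟩, hm,
        (he1 x ⟨f.toMonoidHom x, Subgroup.subset_closure hm⟩ rfl).symm⟩
    · rintro ⟨y, hy, rfl⟩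
      have hy' : (y : Y) ∈ adj (f.toMonoidHom '' E) (f.toMonoidHom d) := hy
      rw [hadj] at hy'
      obtain ⟨x, hx, hxy⟩ := hy'
      exact ⟨toQ _ ⟨x, Subgroup.subset_closure hx⟩, ⟨_, hx, rfl⟩, he1 ⟨x, _⟩ y hxy.symm⟩
  refine ⟨FischerM24.center_eq_bot_map f hZ, f d, ⟨d, hd, rfl⟩, f c, ⟨c, hc, rfl⟩,
    fun e => hdc (e.of_map (f := f.toMonoidHom) f.injective), ?_, ?_⟩
  · obtain ⟨x, y, h'⟩ := FischerM24.data_of_type23 h23
    have h2 := (FischerM24.data23_image (FischerM24.qset_conj hconj d) e1.toMonoidHom e1.injective.injOn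
      h'.1 h'.2.1).2 h'
    have h3 : FischerM24.Data23At (FischerM23.QSet (f.toMonoidHom '' E) (f.toMonoidHom d)) (e1 x) (e1 y) :=
      Eq.subst (motive := fun s => FischerM24.Data23At s (e1 x) (e1 y)) e1' h2
    exact FischerM24.type23_of_data (FischerM24.center_eq_bot_map e1 h23.1) h3
  · let N2 : Subgroup (↥(Subgroup.closure (common E d c)) ⧸ Subgroup.center ↥(Subgroup.closure (common E d c))) := N
    have hN' : (N.map e2.toMonoidHom).Normal := hN.map _ e2.surjective
    exact ⟨N.map e2.toMonoidHom, hN', ⟨(e2.subgroupMap N2).symm.trans eN⟩,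
      ⟨(QuotientGroup.congr N (N.map e2.toMonoidHom) e2 rfl).symm.trans e3⟩⟩

variable {Γ : Type*} [Group Γ] [Finite Γ]

namespace Seed

variable {G₀ : Subgroup Γ} {d z : Γ} {T : Set ↥(Yd G₀ d)}

theorem self_comp (S : Seed G₀ d z T) : d ∈ comp (conjugatesOf d) d := WideCls.self_mem_comp d S.self_mem

theorem shift_comp (S : Seed G₀ d z T) {τ : ↥(Yd G₀ d)} (hτ : τ ∈ T) :
    d * (τ : Γ) ∈ comp (conjugatesOf d) d :=
  WideCls.adj_sub_comp S.self_comp (S.adj_eq ▸ ⟨τ, hτ, rfl⟩)

/-- The members in the group of the component form the component. -/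
theorem mem_comp_of_mem (S : Seed G₀ d z T) {x : Γ} (hx : x ∈ conjugatesOf d)
    (hxH : x ∈ compGroup (conjugatesOf d) d) : x ∈ comp (conjugatesOf d) d := by
  obtain ⟨b, hb, hc⟩ := FischerM24.exists_fixed_member S.setup24
    (x := (⟨x, hxH⟩ : ↥(compGroup (conjugatesOf d) d))) (Subtype.ext (S.class_sq hx))
  exact WideCls.comp_closed hb hx (congrArg Subtype.val hc).symm

/-- The centraliser of a product of two commuting members. -/
theorem pair_le (S : Seed G₀ d z T) {a b : ↥(compGroup (conjugatesOf d) d)}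
    (ha : a ∈ compSet (conjugatesOf d) d) (hb : b ∈ adj (compSet (conjugatesOf d) d) a) {g : Γ}
    (hg : Commute g ((a * b : ↥(compGroup (conjugatesOf d) d)) : Γ)) : g ∈ compGroup (conjugatesOf d) d := by
  obtain ⟨τ, hτ, hcent⟩ := S.pair_cent
  have hdd : (⟨d, WideCls.mem_compGroup S.self_comp⟩ : ↥(compGroup (conjugatesOf d) d)) ∈
    compSet (conjugatesOf d) d := S.self_comp
  have hdt : (⟨d * (τ : Γ), WideCls.mem_compGroup (S.shift_comp hτ)⟩ : ↥(compGroup (conjugatesOf d) d)) ∈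
      adj (compSet (conjugatesOf d) d) ⟨d, WideCls.mem_compGroup S.self_comp⟩ := by
    have h1 : d * (τ : Γ) ∈ adj (conjugatesOf d) d := S.adj_eq ▸ ⟨τ, hτ, rfl⟩
    exact ⟨S.shift_comp hτ, fun e => h1.2.1 (congrArg Subtype.val e), Subtype.ext h1.2.2⟩
  obtain ⟨h, e1, e2⟩ := FischerM24.pair_conj S.setup24 hdd hdt ha hb
  have e : ((a * b : ↥(compGroup (conjugatesOf d) d)) : Γ) = (h : Γ) * (τ : Γ) * (h : Γ)⁻¹ := by
    rw [← e1, ← e2]
    show (h : Γ) * d * (h : Γ)⁻¹ * ((h : Γ) * (d * τ) * (h : Γ)⁻¹) = _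
    calc _ = (h : Γ) * (d * (d * τ)) * (h : Γ)⁻¹ := by group
      _ = _ := by rw [S.d_mul_cancel]
  set k := (h : Γ)⁻¹ * g * h with hk
  have hkτ : Commute k (τ : Γ) := by
    rw [e] at hg
    have h1 := hg.map (MulAut.conj (h : Γ)⁻¹).toMonoidHom
    simpa [mul_assoc, hk] using h1
  have hkH : k ∈ compGroup (conjugatesOf d) d := by
    refine S.wideCls.mem_of_meet S.self_mem S.self_comp ?_
    rcases hcent k hkτ with h1 | h1 <;> rw [h1]
    · exact S.self_comp
    · exact S.shift_comp hτ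
  have := mul_mem (mul_mem h.2 hkH) (inv_mem h.2)
  rwa [show (h : Γ) * k * (h : Γ)⁻¹ = g by rw [hk]; group] at this

/-- The product is a product of four commuting members. -/
theorem exists_quad (S : Seed G₀ d z T) :
    ∃ x : ↥(compGroup (conjugatesOf d) d), IsProd (compSet (conjugatesOf d) d) 4 x ∧ (x : Γ) = z := by
  obtain ⟨x0, hx0, hx0z⟩ := S.triple
  obtain ⟨e', -⟩ | ⟨e', -⟩ | ⟨-, a, b, c, hT, hx0e⟩ := isProd_cases (by norm_num) le_rfl hx0
  · omega
  · omega
  obtain ⟨ha, hb, hc, n1, n2, n3, c1, c2, c3⟩ := hT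
  set p : ↥(compGroup (conjugatesOf d) d) := ⟨d, WideCls.mem_compGroup S.self_comp⟩
  set q : ↥(compGroup (conjugatesOf d) d) := ⟨d * (a : Γ), WideCls.mem_compGroup (S.shift_comp ha)⟩
  set r : ↥(compGroup (conjugatesOf d) d) := ⟨d * (b : Γ), WideCls.mem_compGroup (S.shift_comp hb)⟩
  set s : ↥(compGroup (conjugatesOf d) d) := ⟨d * (c : Γ), WideCls.mem_compGroup (S.shift_comp hc)⟩
  have ne : ∀ u v : ↥(Yd G₀ d), u ≠ v → d * (u : Γ) ≠ d * (v : Γ) := fun u v h e =>
    h (Subtype.ext (mul_left_cancel e))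
  have ne0 : ∀ u : ↥(Yd G₀ d), u ∈ T → d * (u : Γ) ≠ d := fun u hu e =>
    FischerM23.prod_ne_one S.setup le_rfl (by norm_num) (isProd_one hu) (Subtype.ext (mul_eq_left.1 e))
  have cd : ∀ u : ↥(Yd G₀ d), Commute d (d * (u : Γ)) := fun u => (Commute.refl d).mul_right (comm_d u)
  refine ⟨p * q * r * s, ⟨[p, q, r, s], ?_, rfl, ?_, ?_, by simp [mul_assoc]⟩, ?_⟩
  · have m1 : p ≠ q := fun e => ne0 a ha (congrArg Subtype.val e).symm
    have m2 : p ≠ r := fun e => ne0 b hb (congrArg Subtype.val e).symm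
    have m3 : p ≠ s := fun e => ne0 c hc (congrArg Subtype.val e).symm
    have m4 : q ≠ r := fun e => ne a b n1 (congrArg Subtype.val e)
    have m5 : q ≠ s := fun e => ne a c n2 (congrArg Subtype.val e)
    have m6 : r ≠ s := fun e => ne b c n3 (congrArg Subtype.val e)
    simp [m1, m2, m3, m4, m5, m6]
  · intro x hx
    simp only [List.mem_cons, List.not_mem_nil, or_false] at hx
    rcases hx with rfl | rfl | rfl | rfl
    exacts [S.self_comp, S.shift_comp ha, S.shift_comp hb, S.shift_comp hc]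
  · intro x hx y hy
    simp only [List.mem_cons, List.not_mem_nil, or_false] at hx hy
    have k1 : Commute (q : Γ) r := (S.shift_comm a b).2 c1
    have k2 : Commute (q : Γ) s := (S.shift_comm a c).2 c2
    have k3 : Commute (r : Γ) s := (S.shift_comm b c).2 c3
    rcases hx with rfl | rfl | rfl | rfl <;> rcases hy with rfl | rfl | rfl | rfl <;> refine Subtype.ext ?_
    exacts [rfl, cd a, cd b, cd c, (cd a).symm, rfl, k1, k2, (cd b).symm, k1.symm, rfl, k3, (cd c).symm, k2.symm,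
      k3.symm, rfl]
  · show d * (d * (a : Γ)) * (d * (b : Γ)) * (d * (c : Γ)) = z
    rw [S.d_mul_cancel, ← hx0z, hx0e, Subgroup.coe_mul, Subgroup.coe_mul,
      ← mul_assoc (a : Γ), ← (comm_d a).eq, mul_assoc d]
    rw [← Subgroup.coe_mul, (comm_d (a * b)).eq, mul_assoc, S.d_mul_cancel]

/-- The centraliser of a product of four commuting members. -/
theorem quad_le (S : Seed G₀ d z T) {x : ↥(compGroup (conjugatesOf d) d)}
    (hx : IsProd (compSet (conjugatesOf d) d) 4 x) {g : Γ} (hg : Commute g (x : Γ)) :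
    g ∈ compGroup (conjugatesOf d) d := by
  obtain ⟨x1, hx1, hx1z⟩ := S.exists_quad
  obtain ⟨h, he⟩ := isConj_iff.1 (FischerM24.prod_conj S.setup24 (by norm_num) le_rfl hx1 hx)
  set k := (h : Γ)⁻¹ * g * h with hk
  have hkz : Commute k z := by
    have he' : (h : Γ) * z * (h : Γ)⁻¹ = x := by rw [← hx1z]; exact congrArg Subtype.val he
    rw [← he'] at hg
    have h1 := hg.map (MulAut.conj (h : Γ)⁻¹).toMonoidHom
    simpa [mul_assoc, hk] using h1
  have hkH : k ∈ compGroup (conjugatesOf d) d := by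
    refine S.wideCls.mem_of_meet S.self_mem S.self_comp ?_
    have himg : Subtype.val '' PrimeNorm24.Ey (compSet (conjugatesOf d) d) x1 =
        {e | e ∈ conjugatesOf d ∧ Commute e z} := by
      refine Set.eq_of_subset_of_ncard_le ?_ ?_ (Set.toFinite _)
      · rintro _ ⟨e, ⟨he1, he2⟩, rfl⟩
        exact ⟨he1.1, hx1z ▸ congrArg Subtype.val he2⟩
      · rw [Set.ncard_image_of_injective _ Subtype.val_injective, FourProd.Ey_ncard S.setup24 hx1]
        exact S.cent_le
    have hmem : k * d * k⁻¹ ∈ {e | e ∈ conjugatesOf d ∧ Commute e z} := S.mem_cent_iff.2 ⟨k, hkz, rfl⟩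
    rw [← himg] at hmem
    obtain ⟨e, ⟨he1, -⟩, he2⟩ := hmem
    rw [← he2]
    exact he1
  have := mul_mem (mul_mem h.2 hkH) (inv_mem h.2)
  rwa [show (h : Γ) * k * (h : Γ)⁻¹ = g by rw [hk]; group] at this

/-- The parity of a product of members. -/
theorem odd_out (S : Seed G₀ d z T) {m : ℕ} {x : ↥(compGroup (conjugatesOf d) d)} (h1 : 1 ≤ m) (h4 : m ≤ 4)
    (h : IsProd (compSet (conjugatesOf d) d) m x) : (x : Γ) ∈ G₀ ↔ (m = 2 ∨ m = 4) := by
  have hout : ∀ {y : ↥(compGroup (conjugatesOf d) d)}, y ∈ compSet (conjugatesOf d) d → (y : Γ) ∉ G₀ :=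
    fun hy => S.class_out hy.1
  rcases isProd_cases4 h1 h4 h with ⟨rfl, hx⟩ | ⟨rfl, a, ha, b, hb, rfl⟩ | ⟨rfl, a, b, c, hT, rfl⟩ |
      ⟨rfl, a, b, c, e, ha, hb, hc, he, -, rfl⟩
  · exact iff_of_false (hout hx) (by omega)
  · refine iff_of_true ?_ (Or.inl rfl)
    simp [Subgroup.mul_mem_iff_of_index_two S.idx, hout ha, hout hb.1]
  · refine iff_of_false ?_ (by omega)
    simp [Subgroup.mul_mem_iff_of_index_two S.idx, hout hT.1, hout hT.2.1, hout hT.2.2.1]
  · refine iff_of_true ?_ (Or.inr rfl)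
    simp [Subgroup.mul_mem_iff_of_index_two S.idx, hout ha, hout hb.1, hout hc.1, hout he.1]

/-- An involution of the group inside commuting with an element puts it in the group. -/
theorem mem_of_even (S : Seed G₀ d z T) {w : ↥(compGroup (conjugatesOf d) d)} (hw1 : w ≠ 1) (hw2 : w * w = 1)
    (hwG : (w : Γ) ∈ G₀) {x : Γ} (hx : Commute x (w : Γ)) : x ∈ compGroup (conjugatesOf d) d := by
  obtain ⟨m, h1, h4, hm⟩ := FischerM24.involution_prod S.setup24 hw2 hw1
  rcases (S.odd_out h1 h4 hm).1 hwG with rfl | rfl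
  · obtain ⟨e, -⟩ | ⟨-, a, ha, b, hb, rfl⟩ | ⟨e, -⟩ := isProd_cases (by norm_num) (by norm_num) hm
    · omega
    · exact S.pair_le ha hb hx
    · omega
  · exact S.quad_le hm hx

/-- From an element outside and a pair: a product of three with the pair commuting with the element. -/
theorem triple_of_pair (S : Seed G₀ d z T) {x : Γ} (hx : x ∈ conjugatesOf d)
    (hxW : x ∉ comp (conjugatesOf d) d) {p q : ↥(compGroup (conjugatesOf d) d)}
    (hp : p ∈ compSet (conjugatesOf d) d) (hq : q ∈ adj (compSet (conjugatesOf d) d) p) :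
    ∃ e, IsTriple (compSet (conjugatesOf d) d) p q e ∧ Commute x ((p * q * e : ↥(compGroup (conjugatesOf d) d)) : Γ) ∧
      ∀ y : Γ, Commute y ((p * q : ↥(compGroup (conjugatesOf d) d)) : Γ) → Commute y x →
        Commute ((p * q * e : ↥(compGroup (conjugatesOf d) d)) : Γ) y := by
  have S24 := S.setup24
  have hD := S24.cls.1
  set P : Γ := ((p * q : ↥(compGroup (conjugatesOf d) d)) : Γ) with hPdef
  have hPG : P ∈ G₀ := (S.odd_out (by norm_num) (by norm_num) (isProd_two hp hq)).2 (Or.inl rfl)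
  have hPsq : P * P = 1 := by
    rw [hPdef, ← Subgroup.coe_mul]
    rw [hq.2.2.symm.mul_mul_mul_comm, mul_self hD hp, mul_self hD hq.1, one_mul]
    rfl
  have hxH : x ∉ compGroup (conjugatesOf d) d := fun h => hxW (S.mem_comp_of_mem hx h)
  rcases TransCentFi23.dihedral hPsq (S.class_sq hx) with ⟨k, hk, -⟩ | ⟨w, hw1, hww, hwP, hwx, hwc, hcase⟩
  · exact absurd (hk ▸ hPG) (fun h => S.class_out hx ((S.conj_mem_iff k).1 h))
  have hwH : w ∈ compGroup (conjugatesOf d) d := S.pair_le hp hq hwP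
  set w' : ↥(compGroup (conjugatesOf d) d) := ⟨w, hwH⟩ with hw'
  have hwG : w ∉ G₀ := fun h => hxH (S.mem_of_even (w := w') (fun e => hw1 (congrArg Subtype.val e))
    (Subtype.ext hww) h hwx.symm)
  rcases hcase with ⟨-, ⟨k, hk⟩⟩ | ⟨k, hk, -⟩
  · exfalso
    have h1 : w * x ∈ G₀ :=
      (Subgroup.mul_mem_iff_of_index_two S.idx).2 (iff_of_false hwG (S.class_out hx))
    exact S.class_out hx ((S.conj_mem_iff k).1 (hk ▸ h1))
  have heD : w * P ∈ conjugatesOf d := hk ▸ S.conj_closed k x hx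
  set e : ↥(compGroup (conjugatesOf d) d) := w' * (p * q) with he
  have heW : e ∈ compSet (conjugatesOf d) d :=
    S.mem_comp_of_mem heD (mul_mem hwH (p * q : ↥(compGroup (conjugatesOf d) d)).2)
  have hcomm : Commute e (p * q) := Subtype.ext (hwP.mul_left (Commute.refl P)).eq
  obtain ⟨hep, heq⟩ := (commute_mul_iff hD hp hq.1 heW hq.2.1.symm hq.2.2).1 hcomm
  have hwe : w' = p * q * e := by
    rw [← hcomm.eq, he, mul_assoc, hq.2.2.symm.mul_mul_mul_comm, mul_self hD hp, mul_self hD hq.1, one_mul,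
      mul_one]
  refine ⟨e, ⟨hp, hq.1, heW, hq.2.1.symm, fun h => ?_, fun h => ?_, hq.2.2, hep.symm, heq.symm⟩, ?_,
    fun y hy hyx => ?_⟩
  · have hwq : w' = q := by
      rw [hwe, ← h, mul_assoc, ← hq.2.2.eq, ← mul_assoc, mul_self hD hp, one_mul]
    exact hxH (S.wideCls.centralizer_le (x := w) (by have := hq.1; rw [← hwq] at this; exact this)
      (Subgroup.mem_centralizer_singleton_iff.2 hwx.symm.eq))
  · have hwp : w' = p := by rw [hwe, ← h, mul_assoc, mul_self hD hq.1, mul_one]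
    exact hxH (S.wideCls.centralizer_le (x := w) (by have := hp; rw [← hwp] at this; exact this)
      (Subgroup.mem_centralizer_singleton_iff.2 hwx.symm.eq))
  · rw [← hwe]; exact hwx.symm
  · rw [← hwe]; exact hwc y hy hyx

set_option maxHeartbeats 1000000 in
/-- The component is the whole class. -/
theorem comp_eq (S : Seed G₀ d z T) : comp (conjugatesOf d) d = conjugatesOf d := by
  refine Set.Subset.antisymm (fun x hx => hx.1) fun x hx => ?_
  by_contra hxW
  have hxH : x ∉ compGroup (conjugatesOf d) d := fun h => hxW (S.mem_comp_of_mem hx h)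
  have S24 := S.setup24
  have hD := S24.cls.1
  obtain ⟨τ, hτ, -⟩ := S.pair_cent
  set p : ↥(compGroup (conjugatesOf d) d) := ⟨d, WideCls.mem_compGroup S.self_comp⟩
  set q : ↥(compGroup (conjugatesOf d) d) := ⟨d * (τ : Γ), WideCls.mem_compGroup (S.shift_comp hτ)⟩
  have hq : q ∈ adj (compSet (conjugatesOf d) d) p := by
    have h1 : d * (τ : Γ) ∈ adj (conjugatesOf d) d := S.adj_eq ▸ ⟨τ, hτ, rfl⟩
    exact ⟨S.shift_comp hτ, fun e => h1.2.1 (congrArg Subtype.val e), Subtype.ext h1.2.2⟩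
  have hp : p ∈ compSet (conjugatesOf d) d := S.self_comp
  obtain ⟨e, hT, hxe, hT1c⟩ := S.triple_of_pair hx hxW hp hq
  obtain ⟨-, -, he, n1, n2, n3, c1, c2, c3⟩ := id hT
  -- a fourth member
  obtain ⟨f, ⟨hfp, hfq⟩, hfe⟩ : (adj (compSet (conjugatesOf d) d) p ∩ adj (compSet (conjugatesOf d) d) q ∩
      adj (compSet (conjugatesOf d) d) e).Nonempty :=
    Set.nonempty_of_ncard_ne_zero
      (by rw [FischerM24.triple_ncard S24 hp hq ⟨he, n2.symm, c2⟩ n3 c3]; norm_num)
  obtain ⟨g, hT2, hxg, hT2c⟩ := S.triple_of_pair hx hxW hp hfp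
  set T1 := p * q * e with hT1
  set T2 := p * f * g with hT2'
  have hT1pf : Commute T1 (p * f) :=
    ((((Commute.refl p).mul_right hfp.2.2).mul_left (c1.symm.mul_right hfq.2.2)).mul_left
      (c2.symm.mul_right hfe.2.2))
  have h12 : Commute (T2 : Γ) (T1 : Γ) := hT2c _ (congrArg Subtype.val hT1pf) hxe.symm
  have sqT : ∀ {a b c : ↥(compGroup (conjugatesOf d) d)}, IsTriple (compSet (conjugatesOf d) d) a b c →
      (a * b * c) * (a * b * c) = 1 := fun {a b c} h => by
    rw [← pow_two]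
    conv_lhs => rw [← FischerM24.prod_order S24 (by norm_num) (by norm_num) (isProd_three h), pow_orderOf_eq_one]
  have hne : T1 * T2 ≠ 1 := fun h => by
    have h2 : T1 = T2 := by
      rw [← mul_one T1, ← sqT hT2, ← mul_assoc, h, one_mul]
    have h3 : g = f * q * e := by
      rw [hT1, hT2', mul_assoc p, mul_assoc p] at h2
      have h4 := mul_left_cancel h2
      rw [mul_assoc f, h4, mul_self_cancel hD hfp.1]
    exact FischerM24.one_ne_three S24 hT2.2.2.1
      ⟨hfp.1, hq.1, he, hfq.2.1, hfe.2.1, n3, hfq.2.2.symm, hfe.2.2.symm, c3⟩ h3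
  refine hxH (S.mem_of_even hne ?_ ?_ ?_)
  · rw [(show Commute T2 T1 from Subtype.ext h12.eq).mul_mul_mul_comm, sqT hT, sqT hT2, one_mul]
  · rw [Subgroup.coe_mul, Subgroup.mul_mem_iff_of_index_two S.idx]
    refine iff_of_false (fun h => ?_) fun h => ?_
    · have := (S.odd_out (by norm_num) (by norm_num) (isProd_three hT)).1 h; omega
    · have := (S.odd_out (by norm_num) (by norm_num) (isProd_three hT2)).1 h; omega
  · exact hxe.mul_right hxg

/-- The class makes the group one of type M(24). -/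
theorem main (S : Seed G₀ d z T) :
    Cfsg.IsThreeTranspositionClass (conjugatesOf d) ∧ Cfsg.IsOfTypeM24 Γ (conjugatesOf d) := by
  have hcomp := S.comp_eq
  have htop : compGroup (conjugatesOf d) d = ⊤ := eq_top_iff.2 fun g _ =>
    S.wideCls.mem_of_meet S.self_mem S.self_comp (by rw [hcomp]; exact S.conj_closed g d S.self_mem)
  let f : ↥(compGroup (conjugatesOf d) d) ≃* Γ := (MulEquiv.subgroupCongr htop).trans Subgroup.topEquiv
  have hf : f '' compSet (conjugatesOf d) d = conjugatesOf d := by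
    ext x
    constructor
    · rintro ⟨y, hy, rfl⟩
      exact hy.1
    · intro hx
      exact ⟨⟨x, htop ▸ Subgroup.mem_top x⟩,
        (show x ∈ comp (conjugatesOf d) d by rw [hcomp]; exact hx), rfl⟩
  refine ⟨⟨⟨fun x hx => S.localCls.order x hx, fun x hx y hy => ?_⟩, ⟨d, S.self_mem, rfl⟩, hcomp ▸ htop⟩, ?_⟩
  · rw [← hcomp] at hx hy
    exact S.wideCls.reach_product hx.1 ((FischerM23.reach_symm hx.2).trans hy.2)
  · have S24 := S.setup24
    have h := type24_map f S24.grp.2.1 S24.type24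
    rwa [hf] at h

end Seed

end Cfsg.Agent.TransCentFi24
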