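/-
The outer involution of a group over one of large Fischer type: its centraliser inside of type M(23), the
conjugates of it near the noncentral involution, and the central involution as a product of three (helper79).

Main results (namespace `Cfsg.Agent.TransCentFi24`):
* `perfect_le`, `cent_cases`, `outer_pair`;
* `recognise`, `triangle`, `zcard`.
-/
import Cfsg.Agent.Lib.LargeFischerOuter.Main
import Cfsg.Agent.Lib.LargeFischer.SixBasic
import Cfsg.Agent.Lib.TransCentFi24.Seed
import Cfsg.Agent.Lib.FischerM24.Connected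

set_option autoImplicit false
set_option linter.unusedSectionVars false
open Cfsg
open scoped commutatorElement

namespace Cfsg.Agent.TransCentFi24

open LargeExtraspecial LargeFischer LargeFischerOuter QuadraticMap
open Cfsg.Agent.FischerM22 (IsProd isProd_one isProd_two isProd_three isProd_cases IsTriple)

universe u

variable {X : Type u} [Group X] [Finite X] {G₀ : Subgroup X} {z : ↥G₀}
  {Q : Subgroup (Subgroup.centralizer ({z} : Set ↥G₀))} [Q.Normal] [Fact (Cfsg.IsExtraspecial 2 Q)]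
  {hFX : FitX Q} {S : Setting z Q} {d : X} {tq : Q} {hdz : d ∈ Subgroup.centralizer ({(z : X)} : Set X)}

theorem perfect_comm {A : Subgroup X} (h : Group.IsPerfect ↥A) : ⁅A, A⁆ = A := by
  rw [← Subgroup.map_subtype_commutator, h.commutator_eq_top, ← MonoidHom.range_eq_map, Subgroup.range_subtype]

/-- A perfect subgroup centralising the involution lies in the cover. -/
theorem perfect_le (O : Outer hFX S d tq hdz) {A : Subgroup X} (hA : Group.IsPerfect ↥A)
    (h : ∀ a ∈ A, a ∈ G₀ ∧ a * inj Q tq = inj Q tq * a) :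
    A ≤ coverX ((tq : Subgroup.centralizer ({z} : Set ↥G₀)) : ↥G₀) := by
  rw [← perfect_comm hA, Subgroup.commutator_le]
  intro a ha b hb
  exact O.comm a b (h a ha).1 (h b hb).1 (h a ha).2 (h b hb).2

theorem perfect_map {A : Subgroup X} (hA : Group.IsPerfect ↥A) (g : X) :
    Group.IsPerfect ↥(A.map (MulAut.conj g).toMonoidHom) :=
  have := hA
  Group.IsPerfect.ofSurjective (f := (A.equivMapOfInjective _ (MulAut.conj g).injective).toMonoidHom)
    (A.equivMapOfInjective _ (MulAut.conj g).injective).surjective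

/-- An inner element centralising the cover and the involution is one or the involution. -/
theorem cent_cases (O : Outer hFX S d tq hdz) {a : X} (ha : a ∈ G₀) (hat : a * inj Q tq = inj Q tq * a)
    (hK : ∀ k ∈ coverX ((tq : Subgroup.centralizer ({z} : Set ↥G₀)) : ↥G₀), a * k = k * a) :
    a = 1 ∨ a = inj Q tq := by
  classical
  set t : ↥G₀ := ((tq : Subgroup.centralizer ({z} : Set ↥G₀)) : ↥G₀) with ht
  have haK : a ∈ coverX t := by
    set C := Subgroup.centralizer ({t} : Set ↥G₀) with hC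
    set ι : ↥C →* X := G₀.subtype.comp C.subtype with hι
    have hι' : Function.Injective ι := G₀.subtype_injective.comp C.subtype_injective
    let a' : ↥C := ⟨⟨a, ha⟩, Subgroup.mem_centralizer_singleton_iff.2 (Subtype.ext hat)⟩
    refine ⟨a', Symplectic.centralizer_generalizedFitting_le _ (Subgroup.mem_centralizer_iff.2 fun k hk => hι' ?_),
      rfl⟩
    rw [map_mul, map_mul]
    exact (hK (ι k) ⟨k, hk, rfl⟩).symm
  obtain ⟨hn, ⟨eK⟩⟩ := O.quot
  have h1 : (⟨a, haK⟩ : ↥(coverX t)) ∈ (Subgroup.zpowers (inj Q tq)).subgroupOf (coverX t) := by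
    refine (QuotientGroup.eq_one_iff _).1 (eK.injective ((fi22_conj_injective ?_).trans (map_one eK).symm))
    rw [map_one]
    refine MulEquiv.ext fun y => ?_
    obtain ⟨q, rfl⟩ := eK.surjective y
    obtain ⟨w, rfl⟩ := QuotientGroup.mk_surjective q
    show eK _ * eK _ * (eK _)⁻¹ = eK _
    rw [← map_inv, ← map_mul, ← map_mul, ← QuotientGroup.mk_inv, ← QuotientGroup.mk_mul, ← QuotientGroup.mk_mul]
    congr 2
    refine Subtype.ext ?_
    show a * (w : X) * a⁻¹ = w
    rw [hK w w.2, mul_inv_cancel_right]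
  obtain ⟨k, hk : inj Q tq ^ k = a⟩ := Subgroup.mem_zpowers_iff.1 (Subgroup.mem_subgroupOf.1 h1)
  have h2 : inj Q tq ^ (2 : ℤ) = 1 := by
    rw [zpow_ofNat]
    show ((t : ↥G₀) : X) ^ 2 = 1
    rw [← SubgroupClass.coe_pow, ← O.ord, pow_orderOf_eq_one, Subgroup.coe_one]
  rcases Int.even_or_odd k with ⟨m, rfl⟩ | ⟨m, rfl⟩
  · left; rw [← hk, ← two_mul, zpow_mul, h2, one_zpow]
  · right; rw [← hk, zpow_add, zpow_mul, h2, one_zpow, one_mul, zpow_one]

/-- An element fixing the involution maps the outer one to itself or to its product with it. -/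
theorem outer_pair (hidx : G₀.index = 2) (O : Outer hFX S d tq hdz) {g : X} (hg : Commute g (inj Q tq)) :
    g * d * g⁻¹ = d ∨ g * d * g⁻¹ = d * inj Q tq := by
  have hN := Subgroup.normal_of_index_eq_two hidx
  set KX := coverX ((tq : Subgroup.centralizer ({z} : Set ↥G₀)) : ↥G₀)
  have hdt : Commute d (inj Q tq) := O.cent_d _ O.t_mem
  have hinv : ∀ k ∈ KX, g⁻¹ * k * g ∈ KX := by
    intro k hk
    have h1 := perfect_le O (perfect_map O.qs.1 g⁻¹) ?_
    · refine h1 ⟨k, hk, ?_⟩
      simp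
    rintro _ ⟨a, ha, rfl⟩
    refine ⟨hN.conj_mem a (O.leG ha) g⁻¹, ?_⟩
    have h2 := (show Commute a (inj Q tq) from O.cent_t a ha)
    exact ((hg.inv_left.mul_left h2).mul_left hg.inv_left.inv_left).eq
  set w := g * d * g⁻¹ with hw
  have hwG : w ∉ G₀ := fun h => O.out (by
    have := hN.conj_mem _ h g⁻¹
    simpa [hw, mul_assoc] using this)
  have hwt : Commute w (inj Q tq) := (hg.mul_left hdt).mul_left hg.inv_left
  have hwK : ∀ k ∈ KX, w * k = k * w := fun k hk => by
    calc w * k = g * (d * (g⁻¹ * k * g)) * g⁻¹ := by rw [hw]; group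
      _ = g * ((g⁻¹ * k * g) * d) * g⁻¹ := by rw [O.cent_d _ (hinv k hk)]
      _ = k * w := by rw [hw]; group
  rcases cent_cases O ((Subgroup.mul_mem_iff_of_index_two hidx).2 (iff_of_false hwG O.out))
    (hwt.mul_left hdt).eq (fun k hk => (Commute.mul_left (hwK k hk) (O.cent_d k hk)).eq) with h | h
  · left
    calc w = w * d * d := by rw [mul_assoc, O.sq, mul_one]
      _ = d := by rw [h, one_mul]
  · right
    calc w = w * d * d := by rw [mul_assoc, O.sq, mul_one]
      _ = d * inj Q tq := by rw [h]; exact hdt.symm.eq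

/-- The involution inside the centraliser. -/
def tY (O : Outer hFX S d tq hdz) : ↥(Yd G₀ d) :=
  ⟨inj Q tq, ((tq : Subgroup.centralizer ({z} : Set ↥G₀)) : ↥G₀).2,
    Subgroup.mem_centralizer_singleton_iff.2 (O.cent_d _ O.t_mem).symm⟩

/-- The centraliser inside of the involution is the cover. -/
theorem cent_tY (O : Outer hFX S d tq hdz) :
    (Subgroup.centralizer ({tY O} : Set ↥(Yd G₀ d))).map (Yd G₀ d).subtype =
      coverX ((tq : Subgroup.centralizer ({z} : Set ↥G₀)) : ↥G₀) := by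
  ext x
  constructor
  · rintro ⟨y, hy, rfl⟩
    exact O.fix _ y.2.1 (Subgroup.mem_centralizer_singleton_iff.1 y.2.2)
      (congrArg Subtype.val (Subgroup.mem_centralizer_singleton_iff.1 hy))
  · exact fun hx => ⟨⟨x, O.leG hx, Subgroup.mem_centralizer_singleton_iff.2 (O.cent_d x hx).symm⟩,
      Subgroup.mem_centralizer_singleton_iff.2 (Subtype.ext (O.cent_t x hx)), rfl⟩

/-- The centraliser inside is of type M(23). -/
theorem recognise (hidx : G₀.index = 2) (hF : Cfsg.IsOfLargeFischerTypeAt z Q) (O : Outer hFX S d tq hdz) :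
    FischerM23.Fi23Setup (conjugatesOf (tY O)) := by
  set KX := coverX ((tq : Subgroup.centralizer ({z} : Set ↥G₀)) : ↥G₀)
  have ht : orderOf (tY O) = 2 := by
    rw [← Subgroup.orderOf_coe (tY O)]
    exact (Subgroup.orderOf_coe ((tq : Subgroup.centralizer ({z} : Set ↥G₀)) : ↥G₀)).trans O.ord
  have hCK : (Subgroup.centralizer ({tY O} : Set ↥(Yd G₀ d))).map (Yd G₀ d).subtype = KX := cent_tY O
  let eC : ↥(Subgroup.centralizer ({tY O} : Set ↥(Yd G₀ d))) ≃* ↥KX :=
    (Subgroup.equivMapOfInjective _ (Yd G₀ d).subtype (Yd G₀ d).subtype_injective).trans (MulEquiv.subgroupCongr hCK)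
  have hqsC : Cfsg.IsQuasisimple ↥(Subgroup.centralizer ({tY O} : Set ↥(Yd G₀ d))) :=
    (Components.isQuasisimple_congr eC).2 O.qs
  have hnC : ((Subgroup.zpowers (tY O)).subgroupOf (Subgroup.centralizer ({tY O} : Set ↥(Yd G₀ d)))).Normal := by
    refine ⟨fun x hx w => ?_⟩
    rw [Subgroup.mem_subgroupOf] at hx ⊢
    obtain ⟨k, hk⟩ := Subgroup.mem_zpowers_iff.1 hx
    refine Subgroup.mem_zpowers_iff.2 ⟨k, ?_⟩
    rw [Subgroup.coe_mul, Subgroup.coe_mul, Subgroup.coe_inv, ← hk,
      ((show Commute (w : ↥(Yd G₀ d)) (tY O) from Subgroup.mem_centralizer_singleton_iff.1 w.2).zpow_right k).eq,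
      mul_inv_cancel_right]
  obtain ⟨hn, ⟨eK⟩⟩ := O.quot
  have hmap : ((Subgroup.zpowers (tY O)).subgroupOf (Subgroup.centralizer ({tY O} : Set ↥(Yd G₀ d)))).map
      eC.toMonoidHom = (Subgroup.zpowers (inj Q tq)).subgroupOf KX := by
    ext x
    obtain ⟨y, rfl⟩ := eC.surjective x
    refine (Subgroup.mem_map_iff_mem (f := eC.toMonoidHom) eC.injective).trans ?_
    rw [Subgroup.mem_subgroupOf, Subgroup.mem_subgroupOf, Subgroup.mem_zpowers_iff, Subgroup.mem_zpowers_iff]
    constructor <;> rintro ⟨k, hk⟩ <;> refine ⟨k, ?_⟩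
    · exact (Subgroup.coe_zpow (Yd G₀ d) (tY O) k).symm.trans (congrArg Subtype.val hk)
    · exact Subtype.ext ((Subgroup.coe_zpow (Yd G₀ d) (tY O) k).trans hk)
  obtain ⟨htype, -⟩ := witness22 ((QuotientGroup.congr _ _ eC hmap).trans eK)
  obtain ⟨g, hgG, hgd, hgc, hgne⟩ := exists_mover hidx hF hFX S hdz tq rfl O.pr_ne (axisW tq) O.v0W O.nW
    (fun r hr => O.cent_d _ ((O.axis r).1 hr)) O.orth O.cm O.perp
  have hnwc : ∃ w : ↥(Yd G₀ d), w * tY O * w⁻¹ ∈ Subgroup.centralizer ({tY O} : Set ↥(Yd G₀ d)) ∧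
      w * tY O * w⁻¹ ≠ tY O :=
    ⟨⟨g, hgG, Subgroup.mem_centralizer_singleton_iff.2 hgd⟩,
      Subgroup.mem_centralizer_singleton_iff.2 (Subtype.ext hgc.eq), fun h => hgne (congrArg Subtype.val h)⟩
  obtain ⟨B, _, _, DB, SB⟩ := TransCentFi23.model
  obtain ⟨h3, h23, -⟩ := TransCentFi23.main SB (tY O) ht hqsC htype hnwc
  obtain ⟨x, y, h⟩ := FischerM24.data_of_type23 h23
  exact FischerM24.setup23_of_data h3 h23.1 h

/-- The involution, its two images and their product. -/
theorem triangle (hidx : G₀.index = 2) (hF : Cfsg.IsOfLargeFischerTypeAt z Q) (O : Outer hFX S d tq hdz) :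
    ∃ (g : Subgroup.centralizer ({z} : Set ↥G₀)) (t3 : Q) (b c : ↥(Yd G₀ d)),
      toGL Q g = S.n ∧ ((g : ↥G₀) : X) * d = d * ((g : ↥G₀) : X) ∧
      IsTriple (conjugatesOf (tY O)) (tY O) b c ∧ ((tY O * b * c : ↥(Yd G₀ d)) : X) = (z : X) ∧
      (c : X) = inj Q t3 ∧ (c : X) = ((g : ↥G₀) : X) * ((g : ↥G₀) : X) * inj Q tq *
        (((g : ↥G₀) : X) * ((g : ↥G₀) : X))⁻¹ ∧ OutForm.pr t3 = S.n (S.n (OutForm.pr tq)) := by
  obtain ⟨g, hgn, hgd⟩ := exists_mover_rich hidx hF hFX S hdz tq (t := ((tq : Subgroup.centralizer ({z} : Set ↥G₀)) : ↥G₀))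
    rfl O.pr_ne (axisW tq) O.v0W O.nW (fun r hr => O.cent_d _ ((O.axis r).1 hr)) O.orth O.cm O.perp
  set t2 := MulAut.conjNormal g tq with ht2
  set t3 := MulAut.conjNormal g t2 with ht3
  set v0 := OutForm.pr tq with hv0
  have hp2 : OutForm.pr t2 = S.n v0 := by rw [ht2, pr_conj, hgn]
  have hp3 : OutForm.pr t3 = S.n (S.n v0) := by rw [ht3, pr_conj, hgn, hp2]
  set gX := ((g : ↥G₀) : X)
  have hgY : gX ∈ Yd G₀ d := ⟨(g : ↥G₀).2, Subgroup.mem_centralizer_singleton_iff.2 hgd⟩
  set gY : ↥(Yd G₀ d) := ⟨gX, hgY⟩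
  set b := gY * tY O * gY⁻¹ with hb
  set c := gY * b * gY⁻¹ with hc
  have hbX : (b : X) = inj Q t2 := rfl
  have hcX : (c : X) = inj Q t3 := rfl
  have hn3 : ∀ v, S.n (S.n (S.n v)) = v := fun v => by
    have := congrArg (fun f : OutForm.Vm Q ≃ₗ[ZMod 2] OutForm.Vm Q => f v) S.n_three
    simpa [pow_succ, LinearEquiv.mul_apply] using this
  have e1 : v0 ≠ S.n v0 := fun h => O.pr_ne (S.n_fix _ h.symm)
  have e2 : S.n v0 ≠ S.n (S.n v0) := fun h => e1 (S.n.injective h)
  have e3 : v0 ≠ S.n (S.n v0) := fun h => e1 (((congrArg S.n h).trans (hn3 _)).symm)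
  have hc12 : Commute (tY O) b := Subtype.ext (show inj Q tq * inj Q t2 = inj Q t2 * inj Q tq from
    ((polar_zero_iff t2 tq).1 (by rw [hp2]; exact O.orth _ (O.nW _ O.v0W))).symm)
  have hc13 : Commute (tY O) c := Subtype.ext (show inj Q tq * inj Q t3 = inj Q t3 * inj Q tq from
    ((polar_zero_iff t3 tq).1 (by rw [hp3]; exact O.orth _ (O.nW _ (O.nW _ O.v0W)))).symm)
  have hc23 : Commute b c := by
    rw [hc]; nth_rewrite 1 [hb]
    exact hc12.map (MulAut.conj gY).toMonoidHom
  have hbT : b ∈ conjugatesOf (tY O) := isConj_iff.2 ⟨gY, rfl⟩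
  have hcT : c ∈ conjugatesOf (tY O) := isConj_iff.2 ⟨gY * gY, by rw [hc, hb]; group⟩
  have hne : ∀ (p r : Q) (P R : ↥(Yd G₀ d)), (P : X) = inj Q p → (R : X) = inj Q r →
      OutForm.pr p ≠ OutForm.pr r → P ≠ R := by
    intro p r P R hP hR h e
    subst e
    exact h (congrArg OutForm.pr (inj_injective Q (hP.symm.trans hR)))
  have hT : IsTriple (conjugatesOf (tY O)) (tY O) b c :=
    ⟨IsConj.refl _, hbT, hcT,
      hne tq t2 _ _ rfl hbX (by rw [hp2]; exact e1),
      hne tq t3 _ _ rfl hcX (by rw [hp3]; exact e3),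
      hne t2 t3 _ _ hbX hcX (by rw [hp2, hp3]; exact e2),
      hc12, hc13, hc23⟩
  refine ⟨g, t3, b, c, hgn, hgd, hT, ?_, hcX, ?_, hp3⟩
  · have hprod : ((tY O * b * c : ↥(Yd G₀ d)) : X) = inj Q (tq * t2 * t3) := by
      rw [map_mul, map_mul]; rfl
    have hcen : tq * t2 * t3 ∈ Subgroup.center Q := by
      rw [← OutForm.pr_eq_zero, OutForm.pr_mul, OutForm.pr_mul, hp2, hp3]
      exact S.n_fix _ (by rw [map_add, map_add, hn3]; abel)
    rcases center_cases hF hcen with h | h
    · exfalso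
      refine FischerM23.prod_ne_one (recognise hidx hF O) (by norm_num) le_rfl (isProd_three hT) (Subtype.ext ?_)
      rw [hprod]
      exact congrArg Subtype.val h
    · rw [hprod]
      exact congrArg Subtype.val h
  · show gX * (gX * inj Q tq * gX⁻¹) * gX⁻¹ = gX * gX * inj Q tq * (gX * gX)⁻¹
    group

/-- The order of the centraliser of the central involution in the whole group. -/
theorem zcard (hidx : G₀.index = 2) (hF : Cfsg.IsOfLargeFischerTypeAt z Q) (O : Outer hFX S d tq hdz) :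
    Nat.card ↥(Subgroup.centralizer ({(z : X)} : Set X)) = 321052999680 := by
  obtain ⟨N, M, K, _, _, ψ, hNn, -, -, hNM, hNc, hMidx, -, hψs, hψk, -, hcard, -⟩ := exists_chain hF
  have hker : ψ.ker = N.subgroupOf M := by
    ext m
    rw [MonoidHom.mem_ker, hψk, Subgroup.mem_subgroupOf]
  have hM : Nat.card M = 3265920 * (3 * 2 ^ 13) := by
    rw [Subgroup.card_eq_card_quotient_mul_card_subgroup ψ.ker,
      Nat.card_congr (QuotientGroup.quotientKerEquivOfSurjective ψ hψs).toEquiv, hcard, hker,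
      Nat.card_congr (Subgroup.subgroupOfEquivOfLe hNM).toEquiv, hNc, hF.1.2.2.2.1]
  have hC : Nat.card ↥(Subgroup.centralizer ({z} : Set ↥G₀)) = 160526499840 := by
    rw [← M.index_mul_card, hMidx, hM]
    norm_num
  set CX := Subgroup.centralizer ({(z : X)} : Set X)
  have h2 : (G₀.subgroupOf CX).index = 2 := by
    have := Subgroup.normal_of_index_eq_two hidx
    have h1 : G₀.relIndex CX ∣ 2 := hidx ▸ Subgroup.relIndex_dvd_index_of_normal G₀ CX
    rcases (Nat.dvd_prime Nat.prime_two).1 h1 with h2 | h2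
    · exact absurd (Subgroup.relIndex_eq_one.1 h2 hdz) O.out
    · exact h2
  let e : ↥(G₀.subgroupOf CX) ≃ ↥(Subgroup.centralizer ({z} : Set ↥G₀)) :=
    { toFun := fun x => ⟨⟨(x : X), Subgroup.mem_subgroupOf.1 x.2⟩, Subgroup.mem_centralizer_singleton_iff.2
        (Subtype.ext (Subgroup.mem_centralizer_singleton_iff.1 (x : ↥CX).2))⟩
      invFun := fun y => ⟨⟨((y : ↥G₀) : X), Subgroup.mem_centralizer_singleton_iff.2
        (congrArg Subtype.val (Subgroup.mem_centralizer_singleton_iff.1 y.2))⟩,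
        Subgroup.mem_subgroupOf.2 (y : ↥G₀).2⟩
      left_inv := fun _ => rfl
      right_inv := fun _ => rfl }
  rw [← (G₀.subgroupOf CX).index_mul_card, h2, Nat.card_congr e, hC]

end Cfsg.Agent.TransCentFi24
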