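/-
The outer involution gives the local picture of type M(24) (helper79).

Main results (namespace `Cfsg.Agent.TransCentFi24`):
* `dz_out` : the product with the central involution is not a conjugate;
* `seed_of_outer`.
-/
import Cfsg.Agent.Lib.TransCentFi24.Pieces

set_option autoImplicit false
set_option linter.unusedSectionVars false
open Cfsg

namespace Cfsg.Agent.TransCentFi24

open LargeExtraspecial LargeFischer LargeFischerOuter QuadraticMap
open scoped commutatorElement
open Cfsg.Agent.ThreeTrans (class_conj adj)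
open Cfsg.Agent.FischerM22 (IsProd isProd_one isProd_two isProd_three isProd_cases IsTriple)

universe u

variable {X : Type u} [Group X] [Finite X] {G₀ : Subgroup X} {z : ↥G₀}
  {Q : Subgroup (Subgroup.centralizer ({z} : Set ↥G₀))} [Q.Normal] [Fact (Cfsg.IsExtraspecial 2 Q)]
  {hFX : FitX Q} {S : Setting z Q} {d : X} {tq : Q} {hdz : d ∈ Subgroup.centralizer ({(z : X)} : Set X)}

theorem inj_mem (q : Q) : inj Q q ∈ G₀ := ((q : Subgroup.centralizer ({z} : Set ↥G₀)) : ↥G₀).2

theorem inj_comm_z (q : Q) : Commute (inj Q q) (z : X) :=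
  congrArg Subtype.val
    (Subgroup.mem_centralizer_singleton_iff.1 (q : Subgroup.centralizer ({z} : Set ↥G₀)).2)

/-- A product of at most two is not conjugate to the central involution. -/
theorem not_conj_z (hidx : G₀.index = 2) (hF : Cfsg.IsOfLargeFischerTypeAt z Q) (O : Outer hFX S d tq hdz)
    {g : X} (hg : g ∈ G₀) {x : ↥(Yd G₀ d)}
    (hx : IsProd (conjugatesOf (tY O)) 1 x ∨ IsProd (conjugatesOf (tY O)) 2 x) : g * (x : X) * g⁻¹ ≠ (z : X) := by
  have S23 := recognise hidx hF O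
  set t : ↥G₀ := ((tq : Subgroup.centralizer ({z} : Set ↥G₀)) : ↥G₀) with ht
  suffices h : ∃ k ∈ G₀, k * inj Q tq * k⁻¹ = (x : X) by
    obtain ⟨k, hk, hkx⟩ := h
    intro e
    refine O.nconj (isConj_iff.2 ⟨⟨g * k, mul_mem hg hk⟩⁻¹, Subtype.ext ?_⟩)
    show (g * k)⁻¹ * (z : X) * (g * k)⁻¹⁻¹ = inj Q tq
    rw [← e, ← hkx]
    group
  rcases hx with hx | hx
  · obtain ⟨-, hT⟩ | ⟨e, -⟩ | ⟨e, -⟩ := isProd_cases le_rfl (by norm_num) hx
    · obtain ⟨y, hy⟩ := isConj_iff.1 (show IsConj (tY O) x from hT)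
      exact ⟨(y : X), y.2.1, congrArg Subtype.val hy⟩
    · omega
    · omega
  obtain ⟨g0, t3, b, c, -, -, hT, hprod, hc3, hcg, hp3⟩ := triangle hidx hF O
  obtain ⟨-, hb, -, n1, -, -, c12, -, -⟩ := id hT
  obtain ⟨y, hy⟩ := isConj_iff.1
    (FischerM23.prod_conj S23 (by norm_num) (by norm_num) (isProd_two hT.1 ⟨hb, n1.symm, c12⟩) hx)
  -- the product of two is the product with the third
  have hc2 : c * c = 1 := ThreeTrans.mul_self S23.cls.1 hT.2.2.1
  have hpair : ((tY O * b : ↥(Yd G₀ d)) : X) = (z : X) * inj Q t3 := by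
    rw [← hprod, ← hc3, ← Subgroup.coe_mul, mul_assoc (tY O * b), hc2, mul_one]
  -- a translation moving the third
  obtain ⟨q, hq⟩ : ∃ q : Q, ¬ Commute (inj Q q) (inj Q t3) := by
    by_contra hall
    push Not at hall
    have h0 : OutForm.pr t3 = 0 := by
      refine (Forms.nondegenerate_polarBilin_iff _).1 (OutForm.qf_nondegenerate (E := Q)) _ fun w => ?_
      obtain ⟨q, rfl⟩ := OutForm.pr_surjective w
      rw [polar_comm]
      exact (polar_zero_iff q t3).2 (hall q)
    rw [hp3, map_eq_zero_iff _ S.n.injective, map_eq_zero_iff _ S.n.injective] at h0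
    exact O.pr_ne h0
  have hqc : inj Q q * inj Q t3 * (inj Q q)⁻¹ = (z : X) * inj Q t3 := by
    rcases center_cases hF (OutForm.comm_mem q t3) with h | h
    · exfalso
      refine hq ?_
      have h' : inj Q ⁅q, t3⁆ = 1 := congrArg Subtype.val h
      rw [map_commutatorElement, commutatorElement_eq_one_iff_mul_comm] at h'
      exact h'
    · have h' : inj Q ⁅q, t3⁆ = (z : X) := congrArg Subtype.val h
      rw [← h', map_commutatorElement, commutatorElement_def]
      group
  refine ⟨(y : X) * inj Q q * (((g0 : ↥G₀) : X) * ((g0 : ↥G₀) : X)),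
    mul_mem (mul_mem y.2.1 (inj_mem q)) (mul_mem (g0 : ↥G₀).2 (g0 : ↥G₀).2), ?_⟩
  rw [show (x : X) = (y : X) * ((tY O * b : ↥(Yd G₀ d)) : X) * (y : X)⁻¹ from (congrArg Subtype.val hy).symm,
    hpair, ← hqc, ← hc3, hcg]
  group

/-- Conjugates of `d` come by elements inside. -/
theorem inner_conj (hidx : G₀.index = 2) (O : Outer hFX S d tq hdz) {x : X} (hx : x ∈ conjugatesOf d) :
    ∃ g ∈ G₀, g * d * g⁻¹ = x := by
  obtain ⟨g, rfl⟩ := isConj_iff.1 (show IsConj d x from hx)
  by_cases hg : g ∈ G₀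
  · exact ⟨g, hg, rfl⟩
  · refine ⟨g * d, (Subgroup.mul_mem_iff_of_index_two hidx).2 (iff_of_false hg O.out), ?_⟩
    simp [mul_assoc, mul_inv_rev, O.sq, inv_eq_of_mul_eq_one_left O.sq]

/-- A member commuting with a product of three is one of the three, or commutes with them. -/
theorem triple_members {G : Type*} [Group G] [Finite G] {T : Set G} (S23 : FischerM23.Fi23Setup T) {a b c a' b' c' : G}
    (h : IsTriple T a b c) (h' : IsTriple T a' b' c') (e : a' * b' * c' = a * b * c) :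
    a' = a ∨ a' = b ∨ a' = c := by
  by_contra hno
  push Not at hno
  obtain ⟨ha, hb, hc, n1, n2, n3, c1, c2, c3⟩ := id h
  obtain ⟨ha', hb', hc', m1, m2, m3, d1, d2, d3⟩ := h'
  have hD := S23.cls.1
  obtain ⟨ea, eb, ec⟩ := (ThreeTrans.commute_mul_three_iff hD ha hb hc ha' n1 n2 n3 c1 c2 c3).1
    (e ▸ ((Commute.refl a').mul_right d1).mul_right d2)
  have h3 := FischerM23.four_reduce S23 ha' ⟨ha, hno.1.symm, ea⟩ ⟨hb, hno.2.1.symm, eb⟩ ⟨hc, hno.2.2.symm, ec⟩ h
  have h2 : IsProd T 2 (a' * (a * b * c)) := by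
    rw [← e, mul_assoc a', ← mul_assoc a' a', ThreeTrans.mul_self hD ha', one_mul]
    exact isProd_two hb' ⟨hc', m3.symm, d3⟩
  have := FischerM23.prod_unique S23 (by norm_num) le_rfl (by norm_num) (by norm_num) h3 h2
  omega

set_option maxHeartbeats 1000000 in
/-- The product with the central involution is not a conjugate. -/
theorem dz_out (hidx : G₀.index = 2) (hF : Cfsg.IsOfLargeFischerTypeAt z Q) (O : Outer hFX S d tq hdz) :
    d * (z : X) ∉ conjugatesOf d := by
  classical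
  intro hmem
  have hN := Subgroup.normal_of_index_eq_two hidx
  have S23 := recognise hidx hF O
  have hdzc : Commute d (z : X) := Subgroup.mem_centralizer_singleton_iff.1 hdz
  have hz2 : (z : X) * (z : X) = 1 := by
    rw [← pow_two, ← SubgroupClass.coe_pow, ← hF.1.1, pow_orderOf_eq_one, Subgroup.coe_one]
  have hz1 : (z : X) ≠ 1 := fun h => (data_of_type hF).z_ne (Subtype.ext h)
  obtain ⟨h, hh, hhd⟩ := inner_conj hidx O hmem
  set z' := h⁻¹ * (z : X) * h with hz'
  have hz'Y : z' ∈ Yd G₀ d := by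
    refine ⟨G₀.mul_mem (G₀.mul_mem (G₀.inv_mem hh) z.2) hh, Subgroup.mem_centralizer_singleton_iff.2 ?_⟩
    have h1 : Commute (z : X) (h * d * h⁻¹) := by rw [hhd]; exact hdzc.symm.mul_right (Commute.refl _)
    have h2 := h1.map (MulAut.conj h⁻¹).toMonoidHom
    simp only [MulEquiv.coe_toMonoidHom, MulAut.conj_apply] at h2
    rw [show h⁻¹ * (h * d * h⁻¹) * h⁻¹⁻¹ = d by group, inv_inv] at h2
    exact h2.eq
  have hzz : h * z' * h⁻¹ = (z : X) := by rw [hz']; group
  obtain ⟨m, h1, h3, hm⟩ := FischerM23.involution_prod S23 (x := (⟨z', hz'Y⟩ : ↥(Yd G₀ d)))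
    (Subtype.ext (by
      show z' * z' = 1
      rw [hz', show h⁻¹ * (z : X) * h * (h⁻¹ * (z : X) * h) = h⁻¹ * ((z : X) * (z : X)) * h by group, hz2,
        mul_one, inv_mul_cancel]))
    (fun e => hz1 (by rw [← hzz, show z' = 1 from congrArg Subtype.val e, mul_one, mul_inv_cancel]))
  obtain ⟨α, β, γ, hT, hzt⟩ : ∃ α β γ, IsTriple (conjugatesOf (tY O)) α β γ ∧
      (⟨z', hz'Y⟩ : ↥(Yd G₀ d)) = α * β * γ := by
    rcases isProd_cases h1 h3 hm with ⟨rfl, -⟩ | ⟨rfl, -⟩ | ⟨rfl, α, β, γ, hT, e⟩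
    · exact absurd hzz (not_conj_z hidx hF O hh (Or.inl hm))
    · exact absurd hzz (not_conj_z hidx hF O hh (Or.inr hm))
    · exact ⟨α, β, γ, hT, e⟩
  let U : ↥(Yd G₀ d) → Prop := fun τ => τ = α ∨ τ = β ∨ τ = γ
  let im : ↥(Yd G₀ d) → X := fun τ => h * (τ : X) * h⁻¹
  have hUT : ∀ τ, U τ → τ ∈ conjugatesOf (tY O) := by
    rintro τ (rfl | rfl | rfl)
    exacts [hT.1, hT.2.1, hT.2.2.1]
  have hzαβγ : im α * im β * im γ = (z : X) := by
    rw [← hzz, show z' = ((α * β * γ : ↥(Yd G₀ d)) : X) from congrArg Subtype.val hzt]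
    show h * (α : X) * h⁻¹ * (h * (β : X) * h⁻¹) * (h * (γ : X) * h⁻¹) = h * ((α : X) * β * γ) * h⁻¹
    group
  obtain ⟨hα, hβ, hγ, n1, n2, n3, c1, c2, c3⟩ := id hT
  have hUz : ∀ τ, U τ → Commute (im τ) (z : X) := by
    intro τ hτ
    have h1 : Commute τ (α * β * γ) := by
      rcases hτ with rfl | rfl | rfl
      exacts [((Commute.refl _).mul_right c1).mul_right c2, (c1.symm.mul_right (Commute.refl _)).mul_right c3,
        (c2.symm.mul_right c3.symm).mul_right (Commute.refl _)]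
    rw [← hzt] at h1
    rw [← hzz]
    exact (show Commute (τ : X) z' from congrArg Subtype.val h1).map (MulAut.conj h).toMonoidHom
  have hUinj : ∀ {σ τ}, im σ = im τ → σ = τ := fun e => Subtype.ext (mul_left_cancel (mul_right_cancel e))
  have hUsq : ∀ τ, U τ → im τ * im τ = 1 := fun τ hτ => by
    have h1 : (τ : X) * τ = 1 := congrArg Subtype.val (ThreeTrans.mul_self S23.cls.1 (hUT τ hτ))
    show h * (τ : X) * h⁻¹ * (h * (τ : X) * h⁻¹) = 1
    rw [show h * (τ : X) * h⁻¹ * (h * (τ : X) * h⁻¹) = h * ((τ : X) * τ) * h⁻¹ by group, h1, mul_one, mul_inv_cancel]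
  -- what fixes both `d` and `z` permutes the three
  have hperm : ∀ r ∈ G₀, Commute r d → Commute r (z : X) → ∀ τ, U τ → ∃ σ, U σ ∧ r * im τ * r⁻¹ = im σ := by
    intro r hr hrd hrz τ hτ
    set r' := h⁻¹ * r * h with hr'
    have hr'Y : r' ∈ Yd G₀ d := by
      refine ⟨G₀.mul_mem (G₀.mul_mem (G₀.inv_mem hh) hr) hh, Subgroup.mem_centralizer_singleton_iff.2 ?_⟩
      have h1 : Commute r (h * d * h⁻¹) := by rw [hhd]; exact hrd.mul_right hrz
      have h2 := h1.map (MulAut.conj h⁻¹).toMonoidHom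
      simp only [MulEquiv.coe_toMonoidHom, MulAut.conj_apply] at h2
      rw [show h⁻¹ * (h * d * h⁻¹) * h⁻¹⁻¹ = d by group, inv_inv] at h2
      exact h2.eq
    set y : ↥(Yd G₀ d) := ⟨r', hr'Y⟩
    have hyz : Commute y (α * β * γ) := by
      rw [← hzt]
      refine Subtype.ext ?_
      show r' * z' = z' * r'
      have h2 := hrz.map (MulAut.conj h⁻¹).toMonoidHom
      simp only [MulEquiv.coe_toMonoidHom, MulAut.conj_apply, inv_inv] at h2
      exact h2
    have e : y * α * y⁻¹ * (y * β * y⁻¹) * (y * γ * y⁻¹) = α * β * γ := by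
      rw [show y * α * y⁻¹ * (y * β * y⁻¹) * (y * γ * y⁻¹) = y * (α * β * γ) * y⁻¹ by group, hyz.eq,
        mul_inv_cancel_right]
    have cy : ∀ {p q : ↥(Yd G₀ d)}, Commute p q → Commute (y * p * y⁻¹) (y * q * y⁻¹) := fun h =>
      h.map (MulAut.conj y).toMonoidHom
    have iy : ∀ {p q : ↥(Yd G₀ d)}, p ≠ q → y * p * y⁻¹ ≠ y * q * y⁻¹ := fun h e =>
      h (mul_left_cancel (mul_right_cancel e))
    have key : U (y * τ * y⁻¹) := by
      have m1 := S23.conj_mem y hα
      have m2 := S23.conj_mem y hβ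
      have m3 := S23.conj_mem y hγ
      rcases hτ with rfl | rfl | rfl
      · exact triple_members S23 hT ⟨m1, m2, m3, iy n1, iy n2, iy n3, cy c1, cy c2, cy c3⟩ e
      · exact triple_members S23 hT ⟨m2, m1, m3, iy n1.symm, iy n3, iy n2, cy c1.symm, cy c3, cy c2⟩
          (by rw [← (cy c1).eq]; exact e)
      · exact triple_members S23 hT ⟨m3, m1, m2, iy n2.symm, iy n3.symm, iy n1, cy c2.symm, cy c3.symm, cy c1⟩
          (by rw [mul_assoc, ← ((cy c2).mul_left (cy c3)).eq]; exact e)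
    refine ⟨_, key, ?_⟩
    show r * (h * (τ : X) * h⁻¹) * r⁻¹ = h * ((r' : X) * (τ : X) * r'⁻¹) * h⁻¹
    rw [hr']
    group
  -- the part of the extraspecial group
  set RQ : Subgroup X := (inj Q).range
  have hRc : ∀ {c : X}, c ∈ G₀ → Commute c (z : X) → ∀ {r}, r ∈ RQ → c * r * c⁻¹ ∈ RQ := by
    rintro c hc hcz _ ⟨q, rfl⟩
    let c' : Subgroup.centralizer ({z} : Set ↥G₀) :=
      ⟨⟨c, hc⟩, Subgroup.mem_centralizer_singleton_iff.2 (Subtype.ext hcz.eq)⟩
    exact ⟨MulAut.conjNormal c' q, rfl⟩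
  have hUG : ∀ τ : ↥(Yd G₀ d), im τ ∈ G₀ := fun τ => mul_mem (mul_mem hh τ.2.1) (inv_mem hh)
  obtain ⟨g, -, -, -, hgn, hgd, -, -, -, -, -⟩ := triangle hidx hF O
  set gX := ((g : ↥G₀) : X)
  have hgz : Commute gX (z : X) := congrArg Subtype.val (Subgroup.mem_centralizer_singleton_iff.1 g.2)
  have hne_z : ∀ τ, U τ → im τ ≠ (z : X) := fun τ hτ =>
    not_conj_z hidx hF O hh (Or.inl (isProd_one (hUT τ hτ)))
  have hne_1 : ∀ τ, U τ → im τ ≠ 1 := fun τ hτ e => FischerM23.prod_ne_one S23 le_rfl (by norm_num)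
    (isProd_one (hUT τ hτ)) (hUinj (τ := (1 : ↥(Yd G₀ d))) (e.trans (by show (1:X) = h * 1 * h⁻¹; group)))
  -- the vector of a member inside moves
  have hmove : ∀ τ, U τ → im τ ∈ RQ → gX * im τ * gX⁻¹ ≠ im τ := by
    rintro τ hτ ⟨q, hq⟩ hfix
    have hg1 : MulAut.conjNormal g q = q := inj_injective Q (by
      show gX * inj Q q * gX⁻¹ = inj Q q
      rw [hq]; exact hfix)
    have h0 : OutForm.pr q = 0 := S.n_fix _ (by rw [← hgn, ← pr_conj, hg1])
    rcases center_cases hF (OutForm.pr_eq_zero.1 h0) with h | h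
    · exact hne_1 τ hτ (hq.symm.trans (congrArg Subtype.val h))
    · exact hne_z τ hτ (hq.symm.trans (congrArg Subtype.val h))
  have third : ∀ σ τ, U σ → U τ → σ ≠ τ → ∀ ρ, U ρ → ρ ≠ σ → ρ ≠ τ → im ρ = (z : X) * (im σ * im τ) := by
    intro σ τ hσ hτ hne ρ hρ n4 n5
    have key : α * β * γ * (σ * τ) = ρ := by
      have sq : ∀ {p}, U p → p * p = 1 := fun hp => ThreeTrans.mul_self S23.cls.1 (hUT _ hp)
      have e1 : α * β * γ * (α * β) = γ := by
        rw [← (c2.mul_left c3).symm.eq, mul_assoc,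
          c1.symm.mul_mul_mul_comm, sq (Or.inl rfl), sq (Or.inr (Or.inl rfl)), one_mul, mul_one]
      have e2 : α * β * γ * (α * γ) = β := by
        rw [show α * β * γ = α * γ * β by rw [mul_assoc, c3.eq, ← mul_assoc],
          ← (c1.mul_left c3.symm).symm.eq, mul_assoc, c2.symm.mul_mul_mul_comm, sq (Or.inl rfl),
          sq (Or.inr (Or.inr rfl)), one_mul, mul_one]
      have e3 : α * β * γ * (β * γ) = α := by
        rw [mul_assoc α, mul_assoc α, c3.symm.mul_mul_mul_comm, sq (Or.inr (Or.inl rfl)),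
          sq (Or.inr (Or.inr rfl)), one_mul, mul_one]
      rcases hσ with rfl | rfl | rfl <;> rcases hτ with rfl | rfl | rfl <;>
        rcases hρ with rfl | rfl | rfl <;> first
        | exact absurd rfl hne
        | exact absurd rfl n4
        | exact absurd rfl n5
        | exact e1
        | exact e2
        | exact e3
        | (rw [← c1.eq]; exact e1)
        | (rw [← c2.eq]; exact e2)
        | (rw [← c3.eq]; exact e3)
    rw [← hzz, show z' = ((α * β * γ : ↥(Yd G₀ d)) : X) from congrArg Subtype.val hzt, ← key]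
    show h * (((α * β * γ : ↥(Yd G₀ d)) : X) * ((σ : X) * τ)) * h⁻¹ =
      h * ((α * β * γ : ↥(Yd G₀ d)) : X) * h⁻¹ * (h * (σ : X) * h⁻¹ * (h * (τ : X) * h⁻¹))
    group
  have hzR : (z : X) ∈ RQ := by
    obtain ⟨c, hc, e⟩ := (data_of_type hF).z_mem
    exact ⟨⟨c, hc⟩, congrArg Subtype.val e⟩
  have other : ∀ σ τ : ↥(Yd G₀ d), U σ → U τ → σ ≠ τ → ∃ ρ, U ρ ∧ ρ ≠ σ ∧ ρ ≠ τ := by
    intro σ τ hσ hτ hne
    rcases hσ with rfl | rfl | rfl <;> rcases hτ with rfl | rfl | rfl <;> first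
      | exact absurd rfl hne
      | exact ⟨α, Or.inl rfl, by assumption, by assumption⟩
      | exact ⟨α, Or.inl rfl, n1, n2⟩
      | exact ⟨α, Or.inl rfl, n2, n1⟩
      | exact ⟨β, Or.inr (Or.inl rfl), n1.symm, n3⟩
      | exact ⟨β, Or.inr (Or.inl rfl), n3, n1.symm⟩
      | exact ⟨γ, Or.inr (Or.inr rfl), n2.symm, n3.symm⟩
      | exact ⟨γ, Or.inr (Or.inr rfl), n3.symm, n2.symm⟩
  -- some member inside forces all
  have spread : ∀ τ, U τ → im τ ∈ RQ → ∀ σ, U σ → im σ ∈ RQ := by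
    intro τ hτ hR σ hσ
    obtain ⟨τ', hτ', he⟩ := hperm gX (g : ↥G₀).2 hgd hgz τ hτ
    have hR' : im τ' ∈ RQ := he ▸ hRc (g : ↥G₀).2 hgz hR
    have hne : τ ≠ τ' := fun e => hmove τ hτ hR (by rw [he, e])
    by_cases e1 : σ = τ
    · exact e1 ▸ hR
    by_cases e2 : σ = τ'
    · exact e2 ▸ hR'
    rw [third τ τ' hτ hτ' hne σ hσ e1 e2]
    exact mul_mem hzR (mul_mem hR hR')
  have hall : ∀ τ, U τ → im τ ∈ RQ := by
    by_cases hfix : ∀ q : Q, OutForm.pr q ∈ axisW tq → ∀ τ, U τ → inj Q q * im τ * (inj Q q)⁻¹ = im τ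
    · intro τ hτ
      let c : Subgroup.centralizer ({z} : Set ↥G₀) :=
        ⟨⟨im τ, hUG τ⟩, Subgroup.mem_centralizer_singleton_iff.2 (Subtype.ext (hUz τ hτ).eq)⟩
      have hax : ∀ w ∈ axisW tq, toGL Q c w = w := by
        intro w hw
        obtain ⟨q, rfl⟩ := OutForm.pr_surjective w
        rw [← pr_conj]
        refine congrArg OutForm.pr (inj_injective Q ?_)
        show im τ * inj Q q * (im τ)⁻¹ = inj Q q
        have := mul_inv_eq_iff_eq_mul.1 (hfix q hw τ hτ)
        rw [← this, mul_inv_cancel_right]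
      by_cases hc1 : toGL Q c = 1
      · have : c ∈ Q := (exists_frame hF).1.le (MonoidHom.mem_ker.2 hc1)
        exact ⟨⟨c, this⟩, rfl⟩
      exfalso
      have hqn : ∀ v, OutForm.qf Q (S.n v) = OutForm.qf Q v := by
        obtain ⟨k, hk⟩ := S.n_mem
        intro v; rw [← hk]; exact toGL_q k v
      have hcardV : Nat.card (OutForm.Vm Q) = 4096 := by
        rw [OutForm.card_Vm (n := 6) hF.1.2.2.2.1]; norm_num
      obtain ⟨-, -, -, -, -, -, -, huniq⟩ := plane (OutForm.qf Q) hcardV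
        ((Forms.nondegenerate_polarBilin_iff _).1 (OutForm.qf_nondegenerate (E := Q))) S.n (toGL Q c) hqn
        (toGL_q c) S.n_three S.n_fix hc1 (scalar_normal S _ ⟨c, rfl⟩) _ O.pr_ne
        (by rw [OutForm.qf_apply, show tq * tq = 1 from inj_injective Q (by
          rw [map_mul, map_one, ← pow_two]
          show (((tq : Subgroup.centralizer ({z} : Set ↥G₀)) : ↥G₀) : X) ^ 2 = 1
          rw [← SubgroupClass.coe_pow, ← O.ord, pow_orderOf_eq_one, Subgroup.coe_one]), OutForm.eps_one])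
        (axisW tq) O.v0W hax O.orth O.cov
      set a : Subgroup.centralizer ({(z : X)} : Set X) := ⟨d, hdz⟩
      have ha1 : psi hFX a ≠ 1 := fun e => O.out (psi_inner hFX e)
      have he := huniq _ (psi_q hFX a) O.cm O.fixW ha1
      let cX : Subgroup.centralizer ({(z : X)} : Set X) :=
        ⟨im τ, Subgroup.mem_centralizer_singleton_iff.2 (hUz τ hτ).eq⟩
      have h5 : psi hFX (a * cX⁻¹) = 1 := by
        rw [map_mul, map_inv, psi_eq hFX (a := cX) (c := c) rfl, he, mul_inv_cancel]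
      have h6 : d * (im τ)⁻¹ ∈ G₀ := psi_inner hFX h5
      exact O.out ((Subgroup.mul_mem_cancel_right _ (inv_mem (hUG τ))).1 h6)
    · push Not at hfix
      obtain ⟨q, hq, τ, hτ, hne⟩ := hfix
      have hqd : Commute (inj Q q) d := (O.cent_d _ ((O.axis q).1 hq)).symm
      obtain ⟨σ, hσ, he⟩ := hperm _ (inj_mem q) hqd (inj_comm_z q) τ hτ
      have hst : σ ≠ τ := fun e => hne (e ▸ he)
      have hprodR : im σ * im τ ∈ RQ := by
        rw [← he, show inj Q q * im τ * (inj Q q)⁻¹ * im τ = inj Q q * (im τ * (inj Q q)⁻¹ * im τ) by group]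
        refine mul_mem ⟨q, rfl⟩ ?_
        have h1 := hRc (hUG τ) (hUz τ hτ) (inv_mem (show inj Q q ∈ RQ from ⟨q, rfl⟩))
        rwa [inv_eq_of_mul_eq_one_left (hUsq τ hτ)] at h1
      obtain ⟨ρ, hρ, h1, h2⟩ := other σ τ hσ hτ hst
      exact spread ρ hρ (by rw [third σ τ hσ hτ hst ρ hρ h1 h2]; exact mul_mem hzR hprodR)
  -- each commutes with the axis
  have hfixall : ∀ τ, U τ → ∀ q : Q, OutForm.pr q ∈ axisW tq → Commute (inj Q q) (im τ) := by
    intro τ hτ q hq
    obtain ⟨σ, hσ, he⟩ := hperm _ (inj_mem q) (O.cent_d _ ((O.axis q).1 hq)).symm (inj_comm_z q) τ hτ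
    obtain ⟨p, hp⟩ := hall τ hτ
    have hcomm := center_cases hF (OutForm.comm_mem q p)
    rcases hcomm with hc | hc
    · have h' : inj Q ⁅q, p⁆ = 1 := congrArg Subtype.val hc
      rw [map_commutatorElement, commutatorElement_eq_one_iff_mul_comm, hp] at h'
      exact h'
    · exfalso
      have h' : inj Q ⁅q, p⁆ = (z : X) := congrArg Subtype.val hc
      rw [map_commutatorElement, commutatorElement_def, hp, he] at h'
      have h7 : im σ = (z : X) * im τ := by rw [← h']; group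
      have hst : σ ≠ τ := fun e => hz1 (by rw [e] at h7; exact mul_eq_right.1 h7.symm)
      obtain ⟨ρ, hρ, h1, h2⟩ := other σ τ hσ hτ hst
      have h8 := third σ τ hσ hτ hst ρ hρ h1 h2
      rw [h7, mul_assoc (z : X), hUsq τ hτ, mul_one, hz2] at h8
      exact hne_1 ρ hρ h8
  -- one lies over the noncentral involution
  obtain ⟨τ, hτ, p, hp, hpv⟩ : ∃ τ, U τ ∧ ∃ p : Q, inj Q p = im τ ∧ OutForm.pr p = OutForm.pr tq := by
    obtain ⟨p, hp⟩ := hall α (Or.inl rfl)
    have horth : ∀ w ∈ axisW tq, polar (OutForm.qf Q) w (OutForm.pr p) = 0 := by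
      intro w hw
      obtain ⟨q, rfl⟩ := OutForm.pr_surjective w
      refine (polar_zero_iff q p).2 ?_
      rw [hp]
      exact hfixall α (Or.inl rfl) q hw
    have hp0 : OutForm.pr p ≠ 0 := fun h0 => by
      rcases center_cases hF (OutForm.pr_eq_zero.1 h0) with h | h
      · exact hne_1 α (Or.inl rfl) (hp.symm.trans (congrArg Subtype.val h))
      · exact hne_z α (Or.inl rfl) (hp.symm.trans (congrArg Subtype.val h))
    have step : ∀ τ p, U τ → inj Q p = im τ → ∃ τ' p', U τ' ∧ inj Q p' = im τ' ∧ OutForm.pr p' = S.n (OutForm.pr p) := by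
      intro τ p hτ hp
      obtain ⟨σ, hσ, he⟩ := hperm gX (g : ↥G₀).2 hgd hgz τ hτ
      refine ⟨σ, MulAut.conjNormal g p, hσ, ?_, by rw [pr_conj, hgn]⟩
      show gX * inj Q p * gX⁻¹ = _
      rw [hp, he]
    have hn3 : ∀ v, S.n (S.n (S.n v)) = v := fun v => by
      have := congrArg (fun f : OutForm.Vm Q ≃ₗ[ZMod 2] OutForm.Vm Q => f v) S.n_three
      simpa [pow_succ, LinearEquiv.mul_apply] using this
    obtain ⟨τ1, p1, hτ1, hp1, hv1⟩ := step α p (Or.inl rfl) hp
    obtain ⟨τ2, p2, hτ2, hp2, hv2⟩ := step τ1 p1 hτ1 hp1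
    rcases O.perp_list _ horth with e | e | e | e
    · exact absurd e hp0
    · exact ⟨α, Or.inl rfl, p, hp, e⟩
    · exact ⟨τ2, hτ2, p2, hp2, by rw [hv2, hv1, e, hn3]⟩
    · exact ⟨τ1, hτ1, p1, hp1, by rw [hv1, e, hn3]⟩
  obtain ⟨q0, hq0, hq0v⟩ : ∃ q0 : Q, inj Q q0 * inj Q tq * (inj Q q0)⁻¹ = im τ ∧
      (q0 = 1 ∨ polar (OutForm.qf Q) (OutForm.pr q0) (OutForm.pr tq) ≠ 0 ∧ im τ = inj Q tq * (z : X)) := by
    obtain ⟨cc, hcc, e⟩ := OutForm.eq_mul_center hpv
    rcases center_cases hF hcc with hz0 | hz0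
    · exact ⟨1, by rw [map_one, one_mul, inv_one, mul_one, ← hp, e, map_mul,
        show inj Q cc = 1 from congrArg Subtype.val hz0, mul_one], Or.inl rfl⟩
    · have himt : im τ = inj Q tq * (z : X) := by
        rw [← hp, e, map_mul, show inj Q cc = (z : X) from congrArg Subtype.val hz0]
      obtain ⟨w, hw⟩ : ∃ w, polar (OutForm.qf Q) w (OutForm.pr tq) ≠ 0 := by
        by_contra hno
        push Not at hno
        exact O.pr_ne ((Forms.nondegenerate_polarBilin_iff _).1 (OutForm.qf_nondegenerate (E := Q)) _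
          fun w => by rw [polar_comm]; exact hno w)
      obtain ⟨q, rfl⟩ := OutForm.pr_surjective w
      refine ⟨q, ?_, Or.inr ⟨hw, himt⟩⟩
      rcases center_cases hF (OutForm.comm_mem q tq) with hc | hc
      · exfalso
        have h' : inj Q ⁅q, tq⁆ = 1 := congrArg Subtype.val hc
        rw [map_commutatorElement, commutatorElement_eq_one_iff_mul_comm] at h'
        exact hw ((polar_zero_iff q tq).2 h')
      · have h' : inj Q ⁅q, tq⁆ = (z : X) := congrArg Subtype.val hc
        rw [himt, show inj Q tq * (z : X) = (z : X) * inj Q tq from (inj_comm_z tq).eq, ← h',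
          map_commutatorElement, commutatorElement_def]
        group
  -- the centraliser of the member is the cover
  obtain ⟨y, hy⟩ := isConj_iff.1 (show IsConj (tY O) τ from hUT τ hτ)
  set KX := coverX ((tq : Subgroup.centralizer ({z} : Set ↥G₀)) : ↥G₀) with hKX
  set m := (inj Q q0)⁻¹ * (h * (y : X)) with hm'
  have hmt : m * inj Q tq * m⁻¹ = inj Q tq := by
    have h1 : h * (y : X) * inj Q tq * (h * (y : X))⁻¹ = im τ := by
      show _ = h * (τ : X) * h⁻¹
      rw [← hy]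
      show _ = h * ((y : X) * inj Q tq * (y : X)⁻¹) * h⁻¹
      group
    rw [hm', show (inj Q q0)⁻¹ * (h * (y : X)) * inj Q tq * ((inj Q q0)⁻¹ * (h * (y : X)))⁻¹ =
      (inj Q q0)⁻¹ * (h * (y : X) * inj Q tq * (h * (y : X))⁻¹) * inj Q q0 by group, h1, ← hq0]
    group
  have hmG : m ∈ G₀ := mul_mem (inv_mem (inj_mem q0)) (mul_mem hh y.2.1)
  have hmK : KX.map (MulAut.conj m).toMonoidHom = KX := by
    have hle : KX.map (MulAut.conj m).toMonoidHom ≤ KX := perfect_le O (perfect_map O.qs.1 m) (by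
      rintro _ ⟨k, hk, rfl⟩
      refine ⟨mul_mem (mul_mem hmG (O.leG hk)) (inv_mem hmG), ?_⟩
      have h2 : Commute m (inj Q tq) := mul_inv_eq_iff_eq_mul.1 hmt
      exact ((h2.mul_left (O.cent_t k hk)).mul_left h2.inv_left).eq)
    refine Subgroup.eq_of_le_of_card_ge hle (le_of_eq ?_)
    exact (Nat.card_congr (KX.equivMapOfInjective (MulAut.conj m).toMonoidHom (MulAut.conj m).injective).toEquiv)
  set e := (inj Q q0)⁻¹ * (d * (z : X)) * inj Q q0 with he
  have hconj : (inj Q q0)⁻¹ * (h * ((y : X) * d * (y : X)⁻¹) * h⁻¹) * inj Q q0 = e := by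
    rw [he, ← (comm_d y).eq, mul_inv_cancel_right, hhd]
  have heK : ∀ k ∈ KX, e * k = k * e := by
    intro k hk
    rw [← hmK] at hk
    obtain ⟨k0, hk0, rfl⟩ := hk
    have h1 : Commute d k0 := O.cent_d k0 hk0
    have h2 := h1.map (MulAut.conj m).toMonoidHom
    simp only [MulEquiv.coe_toMonoidHom, MulAut.conj_apply] at h2
    rw [show m * d * m⁻¹ = e by rw [← hconj, hm']; group] at h2
    exact h2.eq
  have het : Commute e (inj Q tq) := by
    have h1 : Commute d (inj Q tq) := O.cent_d _ O.t_mem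
    have h2 := h1.map (MulAut.conj m).toMonoidHom
    simp only [MulEquiv.coe_toMonoidHom, MulAut.conj_apply] at h2
    rwa [show m * d * m⁻¹ = e by rw [← hconj, hm']; group, hmt] at h2
  have heout : e ∉ G₀ := fun hc => by
    have h1 := mul_mem (mul_mem (inj_mem q0) hc) (inv_mem (inj_mem q0))
    rw [he, show inj Q q0 * ((inj Q q0)⁻¹ * (d * (z : X)) * inj Q q0) * (inj Q q0)⁻¹ = d * (z : X) by group] at h1
    exact O.out ((Subgroup.mul_mem_cancel_right _ z.2).1 h1)
  have hcase : e = d ∨ e = d * inj Q tq := by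
    rcases cent_cases O ((Subgroup.mul_mem_iff_of_index_two hidx).2 (iff_of_false O.out heout))
      ((show Commute d (inj Q tq) from O.cent_d _ O.t_mem).mul_left het).eq
      (fun k hk => (Commute.mul_left (show Commute d k from O.cent_d k hk) (heK k hk)).eq) with hh' | hh'
    · left
      rw [← mul_one d, ← hh', ← mul_assoc, O.sq, one_mul]
    · right
      rw [← hh', ← mul_assoc, O.sq, one_mul]
  rcases hq0v with rfl | ⟨hB, himt⟩
  · rw [he, map_one, inv_one, one_mul, mul_one] at hcase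
    rcases hcase with hc | hc
    · exact hz1 (mul_eq_left.1 hc)
    · exact O.nconj (isConj_iff.2 ⟨1, by
        rw [one_mul, inv_one, mul_one]; exact Subtype.ext (mul_left_cancel hc)⟩)
  · set q := inj Q q0 with hq
    set a : Subgroup.centralizer ({(z : X)} : Set X) := ⟨d, hdz⟩
    rcases hcase with hc | hc
    · -- then the translation is fixed modulo the centre
      have hc' := hc
      rw [he] at hc'
      have h1 : q * d * q⁻¹ = d * (z : X) := by
        calc q * d * q⁻¹ = q * (q⁻¹ * (d * (z : X)) * q) * q⁻¹ := by rw [hc']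
          _ = d * (z : X) := by group
      have h2 : inj Q (conjQ hFX a q0 * q0⁻¹) = (z : X) := by
        rw [map_mul, map_inv, inj_conjQ]
        show d * q * d⁻¹ * q⁻¹ = _
        rw [inv_eq_of_mul_eq_one_left O.sq,
          show d * q * d * q⁻¹ = d * (q * d * q⁻¹) by group, h1, ← mul_assoc, O.sq, one_mul]
      have h3 : OutForm.pr (conjQ hFX a q0 * q0⁻¹) = 0 := by
        obtain ⟨z0, hz0⟩ := hzR
        refine OutForm.pr_eq_zero.2 (Subgroup.mem_center_iff.2 fun r => inj_injective Q ?_)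
        rw [MonoidHom.map_mul (inj Q) r, MonoidHom.map_mul (inj Q) _ r, h2]
        exact (inj_comm_z r).eq
      rw [OutForm.pr_mul, OutForm.pr_inv, ← psi_pr, add_eq_zero_iff_eq_neg, ZModModule.neg_eq_self] at h3
      exact hB (O.orth _ (O.axis_max _ h3))
    · have h1 : q * d * q⁻¹ = d * inj Q tq := by
        have h0 : d * (z : X) = q * d * q⁻¹ * (inj Q tq * (z : X)) := by
          rw [← himt, ← hq0, show q * d * q⁻¹ * (q * inj Q tq * q⁻¹) = q * (d * inj Q tq) * q⁻¹ by group,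
            ← hc, he]
          group
        have hts : inj Q tq * inj Q tq = 1 := by
          rw [← pow_two]
          show (((tq : Subgroup.centralizer ({z} : Set ↥G₀)) : ↥G₀) : X) ^ 2 = 1
          rw [← SubgroupClass.coe_pow, ← O.ord, pow_orderOf_eq_one, Subgroup.coe_one]
        calc q * d * q⁻¹ = d * (z : X) * (inj Q tq * (z : X))⁻¹ := by rw [h0]; group
          _ = d * inj Q tq := by
            rw [mul_inv_rev, inv_eq_of_mul_eq_one_left hts, mul_assoc, mul_inv_cancel_left]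
      have h2 : conjQ hFX a q0 * q0⁻¹ = tq := inj_injective Q (by
        rw [map_mul, map_inv, inj_conjQ]
        show d * q * d⁻¹ * q⁻¹ = _
        rw [inv_eq_of_mul_eq_one_left O.sq,
          show d * q * d * q⁻¹ = d * (q * d * q⁻¹) by group, h1, ← mul_assoc, O.sq, one_mul])
      have h3 : psi hFX a (OutForm.pr q0) = OutForm.pr q0 + OutForm.pr tq := by
        rw [← h2, OutForm.pr_mul, OutForm.pr_inv, ← psi_pr, add_comm (psi hFX a _), ← add_assoc,
          ZModModule.add_self, zero_add]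
      have h4 := psi_q hFX a (OutForm.pr q0)
      rw [h3, QuadraticMap.map_add (OutForm.qf Q), OutForm.qf_apply tq] at h4
      have hts : tq * tq = 1 := inj_injective Q (by
        rw [map_mul, map_one, ← pow_two]
        show (((tq : Subgroup.centralizer ({z} : Set ↥G₀)) : ↥G₀) : X) ^ 2 = 1
        rw [← SubgroupClass.coe_pow, ← O.ord, pow_orderOf_eq_one, Subgroup.coe_one])
      rw [hts, OutForm.eps_one, add_zero, add_eq_left] at h4
      exact hB h4

/-- The outer involution gives the local picture. -/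
theorem seed_of_outer (hidx : G₀.index = 2) (hF : Cfsg.IsOfLargeFischerTypeAt z Q) (O : Outer hFX S d tq hdz) :
    Seed G₀ d (z : X) (conjugatesOf (tY O)) := by
  have S23 := recognise hidx hF O
  obtain ⟨g, t3, b, c, -, hgd, hT, hprod, hc3, hcg, -⟩ := triangle hidx hF O
  set u := Classical.choose O.moved
  have hu := Classical.choose_spec O.moved
  have hut : Commute (inj Q u) (inj Q tq) := (polar_zero_iff u tq).1 hu.1
  have hud : inj Q u * d * (inj Q u)⁻¹ = d * inj Q tq := by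
    refine (outer_pair hidx O hut).resolve_left fun h => hu.2 ((O.axis u).2 ?_)
    exact O.fix _ (inj_mem u) (mul_inv_eq_iff_eq_mul.1 h) hut.eq
  have hconjD : ∀ k : X, ∀ {x}, x ∈ conjugatesOf d → k * x * k⁻¹ ∈ conjugatesOf d := fun k _ hx =>
    IsConj.trans hx (isConj_iff.2 ⟨k, rfl⟩)
  have hdt : d * inj Q tq ∈ conjugatesOf d := hud ▸ hconjD _ (IsConj.refl d)
  have hshiftY : ∀ (y x : ↥(Yd G₀ d)), (y : X) * (d * (x : X)) * (y : X)⁻¹ =
      d * ((y * x * y⁻¹ : ↥(Yd G₀ d)) : X) := fun y x => by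
    rw [Subgroup.coe_mul, Subgroup.coe_mul, Subgroup.coe_inv, ← mul_assoc (y : X) d, ← (comm_d y).eq]
    group
  have hno3 : ∀ x, IsProd (conjugatesOf (tY O)) 3 x → d * (x : X) ∉ conjugatesOf d := by
    intro x hx hxD
    obtain ⟨y, hy⟩ := isConj_iff.1 (FischerM23.prod_conj S23 (by norm_num) le_rfl hx (isProd_three hT))
    have h1 := hconjD (y : X) hxD
    rw [hshiftY, hy, hprod] at h1
    exact dz_out hidx hF O h1
  refine ⟨hidx, O.out, O.sq, S23, ?_, ?_, hno3, ⟨_, isProd_three hT, hprod⟩,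
    fun k hk x hx => not_conj_z hidx hF O hk hx, zcard hidx hF O,
    ⟨tY O, IsConj.refl _, fun k hk => outer_pair hidx O hk⟩⟩
  · intro τ hτ
    obtain ⟨y, hy⟩ := isConj_iff.1 (show IsConj (tY O) τ from hτ)
    have h1 := hconjD (y : X) hdt
    rw [show inj Q tq = ((tY O : ↥(Yd G₀ d)) : X) from rfl, hshiftY, hy] at h1
    exact h1
  · intro x hx hxD
    obtain ⟨y, hy⟩ := isConj_iff.1 (FischerM23.prod_conj S23 (by norm_num) (by norm_num) hx
      (isProd_two hT.1 ⟨hT.2.1, hT.2.2.2.1.symm, hT.2.2.2.2.2.2.1⟩))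
    have h1 := hconjD (y : X) hxD
    have hpair : ((tY O * b : ↥(Yd G₀ d)) : X) = (z : X) * (c : X) := by
      rw [← hprod, ← Subgroup.coe_mul, mul_assoc (tY O * b), ThreeTrans.mul_self S23.cls.1 hT.2.2.1, mul_one]
    rw [hshiftY, hy, hpair] at h1
    -- translate back
    set g2 := ((g : ↥G₀) : X) * ((g : ↥G₀) : X) with hg2
    set v := g2 * inj Q u * g2⁻¹ with hv
    have hg2d : Commute g2 d := (show Commute ((g : ↥G₀) : X) d from hgd).mul_left hgd
    have hg2z : Commute g2 (z : X) :=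
      have h0 : Commute ((g : ↥G₀) : X) (z : X) := congrArg Subtype.val (Subgroup.mem_centralizer_singleton_iff.1 g.2)
      h0.mul_left h0
    have hvd : v * d * v⁻¹ = d * (c : X) := by
      rw [hv, hcg, show g2 * inj Q u * g2⁻¹ * d * (g2 * inj Q u * g2⁻¹)⁻¹ =
        g2 * (inj Q u * (g2⁻¹ * d * g2) * (inj Q u)⁻¹) * g2⁻¹ by group,
        show g2⁻¹ * d * g2 = d by rw [mul_assoc, ← hg2d.eq, inv_mul_cancel_left], hud, ← mul_assoc g2 d, hg2d.eq]
      group
    have hvz : Commute v (z : X) := (hg2z.mul_left (inj_comm_z u)).mul_left hg2z.inv_left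
    refine dz_out hidx hF O ?_
    have h2 := hconjD v⁻¹ h1
    have hcz : Commute (c : X) (z : X) := hc3 ▸ inj_comm_z t3
    rw [show d * ((z : X) * (c : X)) = d * (c : X) * (z : X) by rw [← hcz.eq, mul_assoc], ← hvd, inv_inv,
      show v⁻¹ * (v * d * v⁻¹ * (z : X)) * v = d * (v⁻¹ * (z : X) * v) by group, hvz.inv_left.eq,
      inv_mul_cancel_right] at h2
    exact h2

end Cfsg.Agent.TransCentFi24
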