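/-
A group over one of large Fischer type, with the same generalised Fitting subgroup in the centraliser of the
involution, is of type M(24), given the centralisers of noncentral involutions (helper79).
-/
import Cfsg.Agent.Lib.TransCentFi24.Global
import Cfsg.Agent.Lib.TransCentFi24.OfOuter

set_option autoImplicit false
open Cfsg

namespace Cfsg.Agent.TransCentFi24

open LargeExtraspecial LargeFischer LargeFischerOuter

universe u

/-- The group is generated by a class of 3-transpositions of type M(24). -/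
theorem of_cover {X : Type u} [Group X] [Finite X] (G₀ : Subgroup X) (hidx : G₀.index = 2) (z : ↥G₀)
    (Q : Subgroup (Subgroup.centralizer ({z} : Set ↥G₀))) [Q.Normal] (hF : Cfsg.IsOfLargeFischerTypeAt z Q)
    (hcentral : ∃ P : Sylow 2 ↥G₀, z ∈ (P : Subgroup ↥G₀) ∧ ∀ x ∈ (P : Subgroup ↥G₀), Commute x z)
    (hFX : (Cfsg.generalizedFittingSubgroup ↥(Subgroup.centralizer ({(z : X)} : Set X))).map (Subgroup.subtype _) =
      ((Q.map (Subgroup.subtype _)).map G₀.subtype))
    (hcover : ∀ t : ↥G₀, (∃ htc : t ∈ Subgroup.centralizer ({z} : Set ↥G₀),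
        (⟨t, htc⟩ : Subgroup.centralizer ({z} : Set ↥G₀)) ∈ Q) → orderOf t = 2 → ¬ IsConj z t →
        NoncentralCover t) :
    ∃ E : Set X, Cfsg.IsThreeTranspositionClass E ∧ Cfsg.IsOfTypeM24 X E := by
  have : Fact (Cfsg.IsExtraspecial 2 Q) := ⟨hF.1.2.2.1⟩
  obtain ⟨S⟩ := exists_setting hF
  obtain ⟨d, tq, hdz, O⟩ := outer_rich hidx hF hFX hcentral hcover S
  exact ⟨_, (seed_of_outer hidx hF O).main⟩

end Cfsg.Agent.TransCentFi24
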